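import Groth.Agent.KRRLib.Kvb
import Groth.Agent.KFlatLib.Scheme.Tensor
import Groth.Agent.KFlatLib.Perfect.Tensor
import Groth.Agent.KFlatLib.Perfect.Top
import Mathlib.Algebra.Homology.DerivedCategory.Basic
import Mathlib.Algebra.Homology.HomotopyCategory.MappingCone

/-!
# Products of differences of bundles which are locally isomorphic through given maps
-/

set_option autoImplicit false
set_option backward.isDefEq.respectTransparency false
set_option backward.isDefEq.respectTransparency.types false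

universe v u

open CategoryTheory CategoryTheory.Limits AlgebraicGeometry

namespace Groth.Agent.KRRLib

open Groth.Agent

section Cone

variable {C : Type*} [Category* C] [Abelian C]

theorem cone_exactAt {K L : CochainComplex C ℤ} (f : K ⟶ L) (hf : QuasiIso f) (n : ℤ) :
    (CochainComplex.mappingCone f).ExactAt n := by
  have h : (HomotopyCategory.subcategoryAcyclic C) ((HomotopyCategory.quotient C _).obj (CochainComplex.mappingCone f)) := by
    refine ((HomotopyCategory.subcategoryAcyclic C).trW_iff_of_distinguished _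
      (HomotopyCategory.mappingCone_triangleh_distinguished f)).1 ?_
    rw [← HomotopyCategory.quasiIso_eq_trW_subcategoryAcyclic]
    exact (HomotopyCategory.quotient_map_mem_quasiIso_iff f).2 hf
  rw [HomotopyCategory.quotient_obj_mem_subcategoryAcyclic_iff_acyclic] at h
  exact h n

theorem cycles_shortExact (K : CochainComplex C ℤ) (hK : ∀ n, K.ExactAt n) (n : ℤ) :
    (ShortComplex.mk (K.iCycles n) (K.toCycles n (n + 1))
      (by rw [← cancel_mono (K.iCycles (n + 1))]; simp)).ShortExact := by
  haveI : Epi (K.toCycles n (n + 1)) := by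
    have h := (K.exactAt_iff' n (n + 1) (n + 2) (by simp) (by simp; omega)).1 (hK (n + 1))
    have := h.epi_toCycles
    have e : K.toCycles n (n + 1) = (K.sc' n (n + 1) (n + 2)).toCycles ≫
        (K.cyclesIsoSc' n (n + 1) (n + 2) (by simp) (by simp; omega)).inv := by
      rw [← cancel_mono (K.iCycles (n + 1))]
      simp
    rw [e]
    infer_instance
  refine .mk' ?_ inferInstance inferInstance
  refine ShortComplex.exact_of_f_is_kernel _ (KernelFork.IsLimit.ofι _ _
    (fun g hg => K.liftCycles g (n + 1) (by simp) (by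
      rw [← K.toCycles_i n (n + 1), ← Category.assoc]
      exact (congrArg (· ≫ K.iCycles (n + 1)) hg).trans zero_comp))
    (fun g hg => K.liftCycles_i _ _ _ _) (fun g hg b hb => ?_))
  rw [← cancel_mono (K.iCycles n), K.liftCycles_i]
  exact hb

/-- Euler characteristic of an acyclic bounded cochain complex. -/
theorem sum_acyclic {G : Type*} [AddCommGroup G] (P : ObjectProperty C) (χ : C → G)
    (hk : ∀ S : ShortComplex C, S.ShortExact → P S.X₂ → P S.X₃ → P S.X₁)
    (hadd : ∀ S : ShortComplex C, S.ShortExact → P S.X₁ → P S.X₂ → P S.X₃ → χ S.X₂ = χ S.X₁ + χ S.X₃)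
    (hz : ∀ Z : C, IsZero Z → P Z ∧ χ Z = 0) (K : CochainComplex C ℤ) (hK : ∀ n, K.ExactAt n) (N : ℕ)
    (hP : ∀ n, P (K.X n)) (h1 : IsZero (K.X 1)) (hN : IsZero (K.X (-((N + 1 : ℕ) : ℤ)))) :
    ∑ k ∈ Finset.range (N + 1), (-1 : ℤ) ^ k • χ (K.X (-(k : ℤ))) = 0 := by
  have h0 : IsZero (K.cycles (1 - ((0 : ℕ) : ℤ))) := by
    simp only [Nat.cast_zero, sub_zero]
    exact IsZero.of_mono (K.iCycles 1) h1
  have hS : ∀ k : ℕ, ∃ S : ShortComplex C, S.ShortExact ∧ S.X₁ = K.cycles (1 - ((k + 1 : ℕ) : ℤ)) ∧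
      S.X₂ = K.X (-(k : ℤ)) ∧ S.X₃ = K.cycles (1 - (k : ℤ)) := fun k =>
    ⟨_, cycles_shortExact K hK (-(k : ℤ)), by congr 1; push_cast; ring, rfl, by congr 1; ring⟩
  have hQ : ∀ k : ℕ, P (K.cycles (1 - (k : ℤ))) := fun k => by
    induction k with
    | zero => exact (hz _ h0).1
    | succ k ih =>
      obtain ⟨S, hS, e₁, e₂, e₃⟩ := hS k
      exact e₁ ▸ hk S hS (e₂ ▸ hP _) (e₃ ▸ ih)
  have key : ∀ k : ℕ, ∑ i ∈ Finset.range k, (-1 : ℤ) ^ i • χ (K.X (-(i : ℤ))) =
      -((-1 : ℤ) ^ k • χ (K.cycles (1 - (k : ℤ)))) := fun k => by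
    induction k with
    | zero => rw [Finset.sum_range_zero, (hz _ h0).2, smul_zero, neg_zero]
    | succ k ih =>
      obtain ⟨S, hS, e₁, e₂, e₃⟩ := hS k
      have ha := hadd S hS (e₁ ▸ hQ (k + 1)) (e₂ ▸ hP _) (e₃ ▸ hQ k)
      rw [e₁, e₂, e₃] at ha
      rw [Finset.sum_range_succ, ih, ha, pow_succ, mul_neg_one, neg_smul, smul_add]
      abel
  have hlast : IsZero (K.cycles (-(N : ℤ))) := by
    have hSE := cycles_shortExact K hK (-((N + 1 : ℕ) : ℤ))
    haveI := hSE.epi_g
    have h := IsZero.of_epi (K.toCycles (-((N + 1 : ℕ) : ℤ)) (-((N + 1 : ℕ) : ℤ) + 1)) hN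
    rwa [show -((N + 1 : ℕ) : ℤ) + 1 = -(N : ℤ) by push_cast; ring] at h
  rw [key, show 1 - ((N + 1 : ℕ) : ℤ) = -(N : ℤ) by push_cast; ring, (hz _ hlast).2, smul_zero, neg_zero]

end Cone

section Prod

variable {X : Scheme.{u}} {K : Type v} [CommRing K]

theorem flf_kernel {S : ShortComplex X.Modules} (hS : S.ShortExact) (a : FlatMod.IsFinLocFree S.X₂)
    (b : FlatMod.IsFinLocFree S.X₃) : FlatMod.IsFinLocFree S.X₁ :=
  haveI := hS.epi_g
  flf_iso ((kernelIsKernel S.g).conePointUniqueUpToIso hS.fIsKernel) (KFlatLib.isFinLocFree_kernel S.g a b)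

/-- If at every point one of the maps `φ j` is an isomorphism, the product of the differences vanishes. -/
theorem prod_sub_eq_zero (φK : SGA6.Kvb X →+ K) (h1 : φK (KRR.cl X (Coh.structureModule X)) = 1)
    (hmul : ∀ E F : X.Modules, FlatMod.IsFinLocFree E → FlatMod.IsFinLocFree F →
      φK (KRR.cl X E) * φK (KRR.cl X F) = φK (KRR.cl X (((DCoh.tensorBi (X := X)).obj E).obj F)))
    (hO : FlatMod.IsFinLocFree (Coh.structureModule X))
    (m : ℕ) (A B : Fin m → X.Modules) (hA : ∀ j, FlatMod.IsFinLocFree (A j)) (hB : ∀ j, FlatMod.IsFinLocFree (B j))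
    (φ : ∀ j, A j ⟶ B j) (hcov : ∀ x : X, ∃ j, IsIso ((DerSch.stalkFunctor X x).map (φ j))) :
    ∏ j, (φK (KRR.cl X (B j)) - φK (KRR.cl X (A j))) = 0 := by
  classical
  let c : X.Modules → K := fun M => φK (KRR.cl X M)
  have hcz : ∀ M : X.Modules, IsZero M → c M = 0 := fun M hM => by
    show φK (KRR.cl X M) = 0
    rw [show KRR.cl X M = 0 from KZ.clSub_isZero _ hM, map_zero]
  have cone : ∀ i, i ≤ m → ∃ C : CochainComplex X.Modules ℤ,
      (∀ n, FlatMod.IsFinLocFree (C.X n)) ∧ (∀ n : ℤ, 0 < n → IsZero (C.X n)) ∧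
      (∀ n : ℤ, n < -(i : ℤ) → IsZero (C.X n)) ∧
      (∀ (x : X) (j : Fin m), (j : ℕ) < i → IsIso ((DerSch.stalkFunctor X x).map (φ j)) →
        ∀ n, (((DerSch.stalkFunctor X x).mapHomologicalComplex _).obj C).ExactAt n) ∧
      ∑ k ∈ Finset.range (i + 1), (-1 : ℤ) ^ k • c (C.X (-(k : ℤ))) =
        ∏ j ∈ Finset.univ.filter (fun j : Fin m => (j : ℕ) < i), (c (B j) - c (A j)) := by
    intro i
    induction i with
    | zero =>
      intro _
      refine ⟨(HomologicalComplex.single _ (ComplexShape.up ℤ) 0).obj (Coh.structureModule X), fun n => ?_,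
        fun n hn => HomologicalComplex.isZero_single_obj_X _ _ _ _ (by omega),
        fun n hn => HomologicalComplex.isZero_single_obj_X _ _ _ _ (by omega), fun x j hj => absurd hj (by omega), ?_⟩
      · by_cases h : n = 0
        · exact flf_iso (HomologicalComplex.singleObjXIsoOfEq (ComplexShape.up ℤ) 0 (Coh.structureModule X) n h).symm hO
        · exact KFlatLib.isFinLocFree_of_isZero (HomologicalComplex.isZero_single_obj_X _ _ _ _ h)
      · rw [Finset.sum_range_one, pow_zero, one_smul, Finset.filter_eq_empty_iff.2 (fun j _ => by omega),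
          Finset.prod_empty]
        show φK (KRR.cl X _) = 1
        rw [← h1]
        exact congrArg φK (cl_iso (HomologicalComplex.singleObjXIsoOfEq (ComplexShape.up ℤ) 0 _ _ (by simp))
          (flf_iso (HomologicalComplex.singleObjXIsoOfEq (ComplexShape.up ℤ) 0 (Coh.structureModule X) _ (by simp)).symm hO))
    | succ i ih =>
      intro hi
      obtain ⟨C, hC, hpos, hneg, hex, hsum⟩ := ih (by omega)
      let j₀ : Fin m := ⟨i, by omega⟩
      let TA := DCoh.tensorBi.flip.obj (A j₀)
      let TB := DCoh.tensorBi.flip.obj (B j₀)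
      let η : TA ⟶ TB := DCoh.tensorBi.flip.map (φ j₀)
      let f : (TA.mapHomologicalComplex _).obj C ⟶ (TB.mapHomologicalComplex _).obj C :=
        (NatTrans.mapHomologicalComplex η _).app C
      let D := CochainComplex.mappingCone f
      have eD : ∀ n : ℤ, D.X n ≅ TA.obj (C.X (n + 1)) ⊞ TB.obj (C.X n) := fun n =>
        HomologicalComplex.homotopyCofiber.XIsoBiprod f n (n + 1) rfl
      have hfA : ∀ n, FlatMod.IsFinLocFree (TA.obj (C.X n)) := fun n => KFlatLib.isFinLocFree_tensor (hC n) (hA j₀)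
      have hfB : ∀ n, FlatMod.IsFinLocFree (TB.obj (C.X n)) := fun n => KFlatLib.isFinLocFree_tensor (hC n) (hB j₀)
      have hD : ∀ n, FlatMod.IsFinLocFree (D.X n) := fun n =>
        flf_iso (eD n).symm (KFlatLib.isFinLocFree_biprod (hfA _) (hfB _))
      have hcD : ∀ n, c (D.X n) = c (C.X (n + 1)) * c (A j₀) + c (C.X n) * c (B j₀) := fun n => by
        show φK (KRR.cl X (D.X n)) = φK (KRR.cl X _) * φK (KRR.cl X _) + φK (KRR.cl X _) * φK (KRR.cl X _)
        rw [hmul _ _ (hC _) (hA j₀), hmul _ _ (hC _) (hB j₀), ← map_add, cl_iso (eD n) (hD n)]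
        exact congrArg φK (cl_ses (ShortComplex.Splitting.ofHasBinaryBiproduct _ _).shortExact
          (hfA _) (KFlatLib.isFinLocFree_biprod (hfA _) (hfB _)) (hfB _))
      refine ⟨D, hD, fun n hn => (IsZero.of_iso ?_ (eD n)), fun n hn => (IsZero.of_iso ?_ (eD n)), ?_, ?_⟩
      · exact (biprod_isZero_iff _ _).2 ⟨TA.map_isZero (hpos _ (by omega)), TB.map_isZero (hpos _ hn)⟩
      · exact (biprod_isZero_iff _ _).2 ⟨TA.map_isZero (hneg _ (by push_cast at hn; omega)),
          TB.map_isZero (hneg _ (by push_cast at hn; omega))⟩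
      · intro x j hj hiso
        let Φ := DerSch.stalkFunctor X x
        let g := (Φ.mapHomologicalComplex (ComplexShape.up ℤ)).map f
        suffices hq : QuasiIso g from fun n =>
          (cone_exactAt g hq n).of_iso (CochainComplex.mappingCone.mapHomologicalComplexIso f Φ).symm
        rcases Nat.lt_succ_iff_lt_or_eq.1 hj with hlt | heq
        · have hacy := hex x j hlt hiso
          have key : ∀ E : X.Modules, FlatMod.IsFinLocFree E → ∀ n,
              ((Φ.mapHomologicalComplex _).obj (((DCoh.tensorBi.flip.obj E).mapHomologicalComplex _).obj C)).ExactAt n := by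
            intro E hE n
            let R := MonoidalCategory.tensorRight (Φ.obj E)
            haveI : Module.Free (X.presheaf.stalk x) (Φ.obj E) := QCoh.free_stalk_of_isFinLocFree hE x
            have h := hacy n
            rw [HomologicalComplex.exactAt_iff, ShortComplex.ShortExact.moduleCat_exact_iff_function_exact] at h
            have hR : ((((Φ.mapHomologicalComplex _).obj C).sc n).map R).Exact :=
              (ShortComplex.ShortExact.moduleCat_exact_iff_function_exact _).2 (Module.Flat.rTensor_exact (Φ.obj E) h)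
            rw [HomologicalComplex.exactAt_iff]
            exact ShortComplex.exact_of_iso ((C.sc n).mapNatIso (KFlatLib.stalkTensorRightIso E x)).symm hR
          exact ⟨fun n => (quasiIsoAt_iff_exactAt g n (key _ (hA j₀) n)).2 (key _ (hB j₀) n)⟩
        · have : j = j₀ := Fin.ext heq
          subst this
          haveI : ∀ n, IsIso (g.f n) := fun n => by
            show IsIso (Φ.map (((DCoh.tensorBi (X := X)).obj (C.X n)).map (φ j₀)))
            exact (NatIso.isIso_map_iff (KFlatLib.stalkTensorLeftIso (C.X n) x) (φ j₀)).2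
              (Functor.map_isIso (MonoidalCategory.tensorLeft _) (Φ.map (φ j₀)))
          haveI : IsIso g := HomologicalComplex.Hom.isIso_of_components g
          infer_instance
      · have hlast : c (C.X (-((i + 1 : ℕ) : ℤ))) = 0 := hcz _ (hneg _ (by omega))
        have htop : c (C.X (-((0 : ℕ) : ℤ) + 1)) = 0 := hcz _ (hpos _ (by simp))
        have hfilter : Finset.univ.filter (fun j : Fin m => (j : ℕ) < i + 1) =
            insert j₀ (Finset.univ.filter (fun j : Fin m => (j : ℕ) < i)) := by
          ext j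
          simp [j₀, Fin.ext_iff]
          omega
        rw [hfilter, Finset.prod_insert (by simp [j₀]), ← hsum, Finset.mul_sum]
        simp only [hcD, smul_add, Finset.sum_add_distrib]
        rw [Finset.sum_range_succ' (fun k : ℕ => (-1 : ℤ) ^ k • (c (C.X (-(k : ℤ) + 1)) * c (A j₀))) (i + 1),
          Finset.sum_range_succ (fun k : ℕ => (-1 : ℤ) ^ k • (c (C.X (-(k : ℤ))) * c (B j₀))) (i + 1), hlast, htop,
          zero_mul, zero_mul, smul_zero, smul_zero, add_zero, add_zero, ← Finset.sum_add_distrib]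
        refine Finset.sum_congr rfl fun k _ => ?_
        rw [show -((k + 1 : ℕ) : ℤ) + 1 = -(k : ℤ) by push_cast; ring, pow_succ, mul_neg_one, neg_smul,
          ← smul_neg, ← smul_add, mul_smul_comm]
        congr 1
        ring
  obtain ⟨C, hC, hpos, hneg, hex, hsum⟩ := cone m le_rfl
  rw [Finset.filter_true_of_mem (fun j _ => j.2)] at hsum
  rw [← hsum]
  refine sum_acyclic (fun M : X.Modules => FlatMod.IsFinLocFree M) c ?_
    (fun S hS a b d => by show φK _ = φK _ + φK _; rw [cl_ses hS a b d, map_add])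
    (fun M hM => ⟨KFlatLib.isFinLocFree_of_isZero hM, hcz M hM⟩) C (fun n => ?_) m hC (hpos 1 one_pos)
    (hneg _ (by push_cast; omega))
  · intro S hS a b
    exact flf_kernel hS a b
  · rw [HomologicalComplex.exactAt_iff, KFlatLib.exact_iff_stalk]
    intro x
    obtain ⟨j, hj⟩ := hcov x
    exact (HomologicalComplex.exactAt_iff _ _).1 (hex x j j.2 hj n)

end Prod

end Groth.Agent.KRRLib
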