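import Groth.Agent.KRRLib.Kvb
import Groth.Agent.QCoh.Support
import Groth.Agent.QCoh.LocFree

/-!
# Ranks of finite locally free modules on connected schemes
-/

set_option autoImplicit false
set_option backward.isDefEq.respectTransparency false
set_option backward.isDefEq.respectTransparency.types false

universe u

open CategoryTheory CategoryTheory.Limits AlgebraicGeometry

namespace Groth.Agent.KRRLib

open Groth.Agent

variable {X : Scheme.{u}}

theorem flf_of_rank {d : ℕ} {E : X.Modules} (h : FlatMod.IsFinLocFreeOfRank d E) : FlatMod.IsFinLocFree E :=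
  fun z => let ⟨U, hz, he⟩ := h z; ⟨U, d, hz, he⟩

theorem finrank_stk {d : ℕ} {E : X.Modules} (h : FlatMod.IsFinLocFreeOfRank d E) (x : X) :
    Module.finrank (X.presheaf.stalk x) (E.presheaf.stalk x) = d := by
  obtain ⟨U, hxU, ⟨e⟩⟩ := h x
  obtain ⟨_, ⟨V, hV, rfl⟩, hxV, hle⟩ := X.isBasis_affineOpens.exists_subset_of_mem_open hxU U.2
  obtain ⟨l⟩ := QCoh.free_sections hV hle e
  exact QCoh.finrank_stalk_of_freeChart hV (QCoh.isQCoh_of_isFinLocFree (flf_of_rank h)) l hxV

theorem finite_stk {E : X.Modules} (h : FlatMod.IsFinLocFree E) (x : X) :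
    Module.Finite (X.presheaf.stalk x) (E.presheaf.stalk x) :=
  QCoh.finite_stalk_of_isFT (QCoh.isQCoh_of_isFinLocFree h) (QCoh.isFT_of_isFP (QCoh.isFP_of_isFinLocFree h)) x

/-- On a connected scheme a finite locally free module has a rank. -/
theorem exists_rank [PreconnectedSpace X] [Nonempty X] {E : X.Modules} (h : FlatMod.IsFinLocFree E) :
    ∃ d, FlatMod.IsFinLocFreeOfRank d E := by
  refine ⟨Module.finrank (X.presheaf.stalk (Classical.arbitrary X)) (E.presheaf.stalk (Classical.arbitrary X)),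
    fun x => ?_⟩
  obtain ⟨U, n, hxU, ⟨e⟩⟩ := h x
  obtain ⟨_, ⟨V, hV, rfl⟩, hxV, hle⟩ := X.isBasis_affineOpens.exists_subset_of_mem_open hxU U.2
  obtain ⟨l⟩ := QCoh.free_sections hV hle e
  have hn := QCoh.finrank_stalk_of_freeChart hV (QCoh.isQCoh_of_isFinLocFree h) l hxV
  rw [(QCoh.isLocallyConstant_rank h).apply_eq_of_preconnectedSpace (Classical.arbitrary X) x, hn]
  exact ⟨U, hxU, ⟨e⟩⟩

theorem rank_freeMod (n : ℕ) : FlatMod.IsFinLocFreeOfRank n (FlatMod.freeMod X n) := fun _ =>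
  ⟨⊤, trivial, ⟨QCoh.freeModRestrict _ n⟩⟩

theorem rank_zero_of_isZero {M : X.Modules} (h : IsZero M) : FlatMod.IsFinLocFreeOfRank 0 M := fun _ =>
  ⟨⊤, trivial, ⟨((Scheme.Modules.restrictFunctor (⊤ : X.Opens).ι).map_isZero h).iso KFlatLib.isZero_freeMod_zero⟩⟩

end Groth.Agent.KRRLib
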