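import Groth.Agent.Synt29.ConormalStalk
import Groth.Agent.S18935
import Groth.Agent.S15821
import Groth.Agent.LC.GorLCI
import Groth.Agent.DefGlueLib.Rel
import Groth.Prelude.Def_FlatMod2
import Groth.Agent.QCoh.LocFree
import Groth.Agent.QCoh.Support
import Mathlib.RingTheory.LocalRing.Module
import Mathlib.LinearAlgebra.TensorProduct.Quotient

/-!
# The number of equations of a regular immersion is the rank of the conormal sheaf
-/

set_option autoImplicit false
set_option backward.isDefEq.respectTransparency false
set_option backward.isDefEq.respectTransparency.types false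

universe u

open CategoryTheory AlgebraicGeometry RingTheory.Sequence IsLocalRing
open scoped TensorProduct

namespace Groth.Agent.KRRLib

open Groth.Agent

section Local

variable {T : Type u} [CommRing T] [IsLocalRing T] [IsNoetherianRing T]

theorem length_le_of_generators {J : Ideal T} (hJ : J ≠ ⊤) (cs : List T) (hcs : IsWeaklyRegular T cs)
    (hc : Ideal.ofList cs = J) (fs : List T) (hf : Ideal.ofList fs = J) : cs.length ≤ fs.length :=
  (S18935.result hJ cs (S15821.result T cs hcs).1 hc cs hc).1 (S15821.result T cs hcs).1 fs hf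

/-- As few generators as a regular generating sequence form a regular sequence. -/
theorem weaklyRegular_of_generators {J : Ideal T} (hJ : J ≠ ⊤) (cs : List T) (hcs : IsWeaklyRegular T cs)
    (hc : Ideal.ofList cs = J) (fs : List T) (hf : Ideal.ofList fs = J) (hlen : fs.length ≤ cs.length) :
    IsWeaklyRegular T fs := by
  have hm : ∀ x ∈ fs, x ∈ maximalIdeal T := fun x hx =>
    le_maximalIdeal hJ (hf ▸ Ideal.subset_span hx)
  have hl := (S18935.result hJ cs (S15821.result T cs hcs).1 hc fs hf).2 fun h hh =>
    hlen.trans (length_le_of_generators hJ cs hcs hc h hh)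
  rw [← List.ofFn_getElem (xs := fs)]
  exact LC.weaklyRegular_of_rel _ _ (fun i => hm _ (List.getElem_mem _)) fun _ hu =>
    DefGlueLib.mem_trivR_of_isKoszulRegularSeq hl hu

end Local

section Stalk

open Synt29 Synt29.OmegaStalk Synt29.ConormalStalk KFlatLib

variable {Z X : Scheme.{u}} (i : Z ⟶ X) [IsClosedImmersion i]

omit [IsClosedImmersion i] in
theorem rep_unique {y : X} {m : St (I i) y} {a a' : X.presheaf.stalk y} (h : Rep i y m a) (h' : Rep i y m a') :
    a = a' := by
  obtain ⟨U, hy, k, rfl, rfl⟩ := h
  obtain ⟨U', hy', k', e, rfl⟩ := h'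
  obtain ⟨W, hyW, j, j', e'⟩ := TopCat.Presheaf.germ_eq (C := AddCommGrpCat.{u}) (I i).presheaf y hy hy' k k' e.symm
  have := congrArg (OmegaSh.idealSect i.ker W) e'
  rw [show j = homOfLE (leOfHom j) from rfl, show j' = homOfLE (leOfHom j') from rfl,
    OmegaLib.idealSect_map, OmegaLib.idealSect_map] at this
  have := congrArg (X.presheaf.germ W y hyW) this
  rwa [X.presheaf.germ_res_apply, X.presheaf.germ_res_apply] at this

/-- The stalk of the module of the ideal is the ideal of the stalk map. -/
theorem exists_stalk_ideal_equiv (x : Z) :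
    Nonempty (St (I i) (i x) ≃ₗ[X.presheaf.stalk (i x)] RingHom.ker (i.stalkMap x).hom) := by
  let a : St (I i) (i x) → X.presheaf.stalk (i x) := fun m => (rep_exists i (i x) m).choose
  have ha : ∀ m, Rep i (i x) m (a m) := fun m => (rep_exists i (i x) m).choose_spec
  let l : St (I i) (i x) →ₗ[X.presheaf.stalk (i x)] RingHom.ker (i.stalkMap x).hom :=
    { toFun := fun m => ⟨a m, RingHom.mem_ker.2 (rep_mem i (ha m))⟩
      map_add' := fun m m' => Subtype.ext (rep_unique i (ha _) (rep_add i (ha m) (ha m')))
      map_smul' := fun c m => Subtype.ext (rep_unique i (ha _) (rep_smul i (ha m) c)) }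
  refine ⟨LinearEquiv.ofBijective l ⟨fun m m' h => ?_, fun b => ?_⟩⟩
  · have e : a m = a m' := congrArg Subtype.val h
    exact rep_inj i (ha m) (e ▸ ha m')
  · obtain ⟨m, hm⟩ := exists_rep i (RingHom.mem_ker.1 b.2)
    exact ⟨m, Subtype.ext (rep_unique i (ha m) hm)⟩

/-- The stalk of the conormal sheaf is the base change of the ideal. -/
theorem exists_conormal_stalk_equiv (x : Z) :
    letI := (i.stalkMap x).hom.toAlgebra
    Nonempty (St (Omega.conormal i) x ≃ₗ[Z.presheaf.stalk x]
      Z.presheaf.stalk x ⊗[X.presheaf.stalk (i x)] RingHom.ker (i.stalkMap x).hom) := by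
  letI := (i.stalkMap x).hom.toAlgebra
  obtain ⟨e⟩ := exists_stalk_ideal_equiv i x
  exact ⟨(((stalkPullbackIso i x).app (I i)) ≪≫
    (ModuleCat.extendScalars (i.stalkMap x).hom).mapIso
      (e.toModuleIso : St (I i) (i x) ≅ ModuleCat.of _ (RingHom.ker (i.stalkMap x).hom))).toLinearEquiv⟩

/-- The number of equations is the rank of the conormal sheaf. -/
theorem length_eq_rank [IsLocallyNoetherian X] (d : ℕ)
    (hd : FlatMod.IsFinLocFreeOfRank d (Omega.conormal i)) (x : Z) (rs : List (X.presheaf.stalk (i x)))
    (hreg : IsWeaklyRegular (X.presheaf.stalk (i x)) rs)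
    (hker : RingHom.ker (i.stalkMap x).hom = Ideal.ofList rs) : rs.length = d := by
  classical
  let R : Type u := X.presheaf.stalk (i x)
  let S : Type u := Z.presheaf.stalk x
  letI : Algebra R S := (i.stalkMap x).hom.toAlgebra
  have hsurj : Function.Surjective (algebraMap R S) := i.stalkMap_surjective x
  let J : Ideal R := RingHom.ker (algebraMap R S)
  have hJ : J ≠ ⊤ := RingHom.ker_ne_top _
  have hrs : Ideal.ofList rs = J := hker.symm
  obtain ⟨e₁⟩ := exists_conormal_stalk_equiv i x
  obtain ⟨U, hxU, ⟨e₂⟩⟩ := hd x
  have hflf : FlatMod.IsFinLocFree (Omega.conormal i) := fun z =>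
    let ⟨U, hz, he⟩ := hd z; ⟨U, d, hz, he⟩
  obtain ⟨_, ⟨V, hV, rfl⟩, hxV, hle⟩ := Z.isBasis_affineOpens.exists_subset_of_mem_open hxU U.2
  obtain ⟨l⟩ := QCoh.free_sections hV hle e₂
  haveI : Module.Free S (St (Omega.conormal i) x) := QCoh.free_stalk_of_isFinLocFree hflf x
  haveI : Module.Finite S (St (Omega.conormal i) x) := QCoh.finite_stalk_of_isFT (QCoh.isQCoh_of_isFinLocFree hflf)
    (QCoh.isFT_of_isFP (QCoh.isFP_of_isFinLocFree hflf)) x
  let b : Module.Basis (Fin d) S (S ⊗[R] J) :=
    (Module.finBasisOfFinrankEq S (St (Omega.conormal i) x)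
      (QCoh.finrank_stalk_of_freeChart hV (QCoh.isQCoh_of_isFinLocFree hflf) l hxV)).map e₁
  have hm : ∀ v : S ⊗[R] J, ∃ a : J, v = (1 : S) ⊗ₜ a := fun v => by
    induction v with
    | zero => exact ⟨0, (TensorProduct.tmul_zero _ _).symm⟩
    | tmul s a =>
      obtain ⟨r, rfl⟩ := hsurj s
      exact ⟨r • a, by rw [TensorProduct.tmul_smul, TensorProduct.smul_tmul', ← Algebra.algebraMap_eq_smul_one]⟩
    | add v w hv hw =>
      obtain ⟨a, rfl⟩ := hv
      obtain ⟨c, rfl⟩ := hw
      exact ⟨a + c, (TensorProduct.tmul_add _ _ _).symm⟩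
  apply le_antisymm
  · choose g hg using fun k => hm (b k)
    have hspan : Submodule.span R (Set.range g) = ⊤ := by
      let N := Submodule.span R (Set.range g)
      haveI : Module.Finite R (J ⧸ N) := Module.Finite.of_surjective N.mkQ N.mkQ_surjective
      have h0 : ∀ v : S ⊗[R] J, (N.mkQ.baseChange S) v = 0 := by
        intro v
        rw [← b.sum_repr v, map_sum]
        refine Finset.sum_eq_zero fun k _ => ?_
        rw [map_smul, hg k, LinearMap.baseChange_tmul,
          show N.mkQ (g k) = 0 from (Submodule.Quotient.mk_eq_zero _).2 (Submodule.subset_span ⟨k, rfl⟩),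
          TensorProduct.tmul_zero, smul_zero]
      have hs : Subsingleton (S ⊗[R] (J ⧸ N)) := subsingleton_of_forall_eq 0 fun w => by
        obtain ⟨v, rfl⟩ := LinearMap.lTensor_surjective S N.mkQ_surjective w
        exact h0 v
      haveI : Subsingleton (J ⧸ N) := by
        rw [← IsLocalRing.subsingleton_tensorProduct (R := R)]
        have hle : J ≤ maximalIdeal R := le_maximalIdeal hJ
        let t : S →ₗ[R] ResidueField R := ((J.liftQ (Algebra.linearMap R (ResidueField R)) fun a ha => by
          exact (IsLocalRing.residue_eq_zero_iff a).2 (hle ha))) ∘ₗ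
            ((Algebra.linearMap R S).quotKerEquivOfSurjective hsurj).symm.toLinearMap
        have ht : Function.Surjective (t.rTensor (J ⧸ N)) := LinearMap.rTensor_surjective _ fun k => by
          obtain ⟨a, rfl⟩ := IsLocalRing.residue_surjective k
          exact ⟨algebraMap R S a, by
            show t (Algebra.linearMap R S a) = _
            simp only [t, LinearMap.comp_apply, LinearEquiv.coe_coe]
            exact (congrArg _ (((Algebra.linearMap R S).quotKerEquivOfSurjective hsurj).symm_apply_apply
              (Submodule.Quotient.mk a))).trans rfl⟩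
        haveI := hs
        exact ht.subsingleton
      exact Submodule.Quotient.subsingleton_iff.1 inferInstance
    have hgen : Ideal.ofList (List.ofFn fun k => (g k : R)) = J := by
      have h := congrArg (Submodule.map (Submodule.subtype J)) hspan
      rw [Submodule.map_span, Submodule.map_top, Submodule.range_subtype, ← Set.range_comp] at h
      refine Eq.trans ?_ h
      show Ideal.span {r | r ∈ List.ofFn fun k => (g k : R)} = _
      congr 1
      ext r
      simp [List.mem_ofFn]
    have := length_le_of_generators hJ rs hreg hrs _ hgen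
    rwa [List.length_ofFn] at this
  · let g : Fin rs.length → J := fun k => ⟨rs.get k, hrs.le (Ideal.subset_span (List.get_mem _ _))⟩
    have hg : Submodule.span R (Set.range g) = ⊤ := by
      apply Submodule.map_injective_of_injective (Submodule.injective_subtype J)
      rw [Submodule.map_span, Submodule.map_top, Submodule.range_subtype, ← Set.range_comp]
      refine Eq.trans ?_ hrs
      show Ideal.span _ = Ideal.span {r | r ∈ rs}
      congr 1
      ext r
      simp [g, List.mem_iff_get]
      exact Iff.rfl
    have hgen : Submodule.span S (Set.range fun k => (1 : S) ⊗ₜ[R] g k) = ⊤ := by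
      rw [← top_le_iff, ← Submodule.baseChange_top (A := S) (R := R) (M := J), ← hg, Submodule.baseChange_span,
        ← Set.range_comp]
      rfl
    have := finrank_range_le_card (R := S) fun k => (1 : S) ⊗ₜ[R] g k
    rw [Set.finrank, hgen, finrank_top, Module.finrank_eq_card_basis b, Fintype.card_fin, Fintype.card_fin] at this
    exact this

end Stalk

end Groth.Agent.KRRLib
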