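import Mathlib.RingTheory.AdjoinRoot
import Mathlib.LinearAlgebra.Lagrange
import Mathlib.RingTheory.Localization.Away.Basic
import Mathlib.RingTheory.Localization.FractionRing
import Mathlib.RingTheory.MvPolynomial.Basic
import Mathlib.Algebra.Ring.GeomSum

/-!
# The residue functional of `B[T]/∏(T - u_k)` and its behaviour under `T ↦ T^j`

For `p` monic of degree `r + 1` in which the root `ℓ` is a unit, the functional
`y ↦ coefficient of ℓ^r in y ℓ^r` sends `ℓ^{-n}` to `δ_{n,0}` for `n ≤ r`.  We prove the identity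
behind the Adams–Riemann–Roch theorem for an elementary projection.
-/

set_option autoImplicit false

open Polynomial Finset

namespace Groth.Agent.KRRLib

variable {B : Type*} [CommRing B] {r : ℕ}

/-- `∏ (T - u_k)`. -/
noncomputable def linPoly (u : Fin (r + 1) → B) : B[X] := ∏ k, (X - C (u k))

theorem linPoly_monic (u : Fin (r + 1) → B) : (linPoly u).Monic :=
  monic_prod_of_monic _ _ fun k _ => monic_X_sub_C (u k)

theorem linPoly_natDegree [Nontrivial B] (u : Fin (r + 1) → B) : (linPoly u).natDegree = r + 1 := by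
  simp [linPoly, natDegree_finset_prod_X_sub_C_eq_card]

theorem linPoly_map {B' : Type*} [CommRing B'] (φ : B →+* B') (u : Fin (r + 1) → B) :
    (linPoly u).map φ = linPoly (fun k => φ (u k)) := by
  simp [linPoly, Polynomial.map_prod]

section ResTop

variable {p : B[X]}

/-- The coefficient of `ℓ^r` in `y ℓ^r`. -/
noncomputable def resTop (hp : p.Monic) (r : ℕ) : AdjoinRoot p →ₗ[B] B :=
  lcoeff B r ∘ₗ AdjoinRoot.modByMonicHom hp ∘ₗ LinearMap.mulRight B (AdjoinRoot.root p ^ r)

theorem resTop_apply (hp : p.Monic) (y : AdjoinRoot p) :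
    resTop hp r y = (AdjoinRoot.modByMonicHom hp (y * AdjoinRoot.root p ^ r)).coeff r := rfl

theorem resTop_mk (hp : p.Monic) (Q : B[X]) :
    resTop hp r (AdjoinRoot.mk p Q) = ((Q * X ^ r) %ₘ p).coeff r := by
  rw [resTop_apply, ← AdjoinRoot.mk_X, ← map_pow, ← map_mul, AdjoinRoot.modByMonicHom_mk]

theorem resTop_of_mul (hp : p.Monic) (b : B) (y : AdjoinRoot p) :
    resTop hp r (AdjoinRoot.of p b * y) = b * resTop hp r y := by
  rw [← AdjoinRoot.algebraMap_eq, ← Algebra.smul_def, map_smul, smul_eq_mul]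

theorem resTop_linv_pow [Nontrivial B] (hp : p.Monic) (hdeg : p.natDegree = r + 1)
    {linv : AdjoinRoot p} (hl : linv * AdjoinRoot.root p = 1) {n : ℕ} (hn : n ≤ r) :
    resTop hp r (linv ^ n) = if n = 0 then 1 else 0 := by
  have h : linv ^ n * AdjoinRoot.root p ^ r = AdjoinRoot.mk p (X ^ (r - n)) := by
    obtain ⟨d, rfl⟩ : ∃ d, r = n + d := ⟨r - n, by omega⟩
    rw [pow_add, ← mul_assoc, ← mul_pow, hl, one_pow, one_mul, Nat.add_sub_cancel_left, map_pow,
      AdjoinRoot.mk_X]
  rw [resTop_apply, h, AdjoinRoot.modByMonicHom_mk,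
    (modByMonic_eq_self_iff hp).2, coeff_X_pow]
  · congr 1
    exact propext ⟨fun h => by omega, fun h => by omega⟩
  · rw [degree_X_pow, degree_eq_natDegree hp.ne_zero, hdeg, Nat.cast_lt]
    omega

theorem resTop_map {B' : Type*} [CommRing B'] (φ : B →+* B') (hp : p.Monic) {q : B'[X]}
    (hq : q.Monic) (hpq : q = p.map φ) (y : AdjoinRoot p) :
    resTop hq r (AdjoinRoot.map φ p q (hpq ▸ dvd_rfl) y) = φ (resTop hp r y) := by
  obtain ⟨Q, rfl⟩ := AdjoinRoot.mk_surjective y
  subst hpq
  have : AdjoinRoot.map φ p (p.map φ) dvd_rfl (AdjoinRoot.mk p Q) = AdjoinRoot.mk _ (Q.map φ) := by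
    rw [AdjoinRoot.map, AdjoinRoot.lift_mk, ← eval₂_map]
    exact AdjoinRoot.aeval_eq (Q.map φ)
  rw [this, resTop_mk, resTop_mk, ← coeff_map, Polynomial.map_modByMonic _ hp, Polynomial.map_mul,
    Polynomial.map_pow, map_X]

end ResTop

section Eval

variable (u : Fin (r + 1) → B)

/-- Evaluation of `B[T]/∏(T - u_k)` at `u_i`. -/
noncomputable def evalAt (i : Fin (r + 1)) : AdjoinRoot (linPoly u) →+* B :=
  AdjoinRoot.lift (RingHom.id B) (u i) (by
    simp only [linPoly, eval₂_finsetProd]
    exact prod_eq_zero (mem_univ i) (by simp))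

@[simp] theorem evalAt_of (i : Fin (r + 1)) (b : B) :
    evalAt u i (AdjoinRoot.of (linPoly u) b) = b := by simp [evalAt]

@[simp] theorem evalAt_root (i : Fin (r + 1)) :
    evalAt u i (AdjoinRoot.root (linPoly u)) = u i := by simp [evalAt]

theorem evalAt_mk (i : Fin (r + 1)) (Q : B[X]) :
    evalAt u i (AdjoinRoot.mk (linPoly u) Q) = Q.eval (u i) := by
  rw [evalAt, AdjoinRoot.lift_mk]
  exact eval₂_id

theorem isUnit_of_evalAt {y : AdjoinRoot (linPoly u)} (h : ∀ i, IsUnit (evalAt u i y)) : IsUnit y := by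
  obtain ⟨Q, rfl⟩ := AdjoinRoot.mk_surjective y
  have hc : IsCoprime Q (linPoly u) := IsCoprime.prod_right fun i _ => by
    have hi := h i
    rw [evalAt_mk] at hi
    obtain ⟨c, hc⟩ := isUnit_iff_exists_inv'.1 hi
    obtain ⟨T, hT⟩ := X_sub_C_dvd_sub_C_eval (a := u i) (p := Q)
    refine ⟨C c, -(C c * T), ?_⟩
    have h1 : C c * C (Q.eval (u i)) = 1 := by rw [← map_mul, hc, map_one]
    linear_combination (C c) * hT + h1
  obtain ⟨a, b, hab⟩ := hc
  have := congrArg (AdjoinRoot.mk (linPoly u)) hab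
  rw [map_add, map_mul, map_mul, AdjoinRoot.mk_self, mul_zero, add_zero, map_one] at this
  exact IsUnit.of_mul_eq_one_right _ this

/-- The base change of `B[T]/∏(T - u_k)`. -/
noncomputable def linMap {B' : Type*} [CommRing B'] (φ : B →+* B') (u' : Fin (r + 1) → B')
    (h : ∀ k, φ (u k) = u' k) : AdjoinRoot (linPoly u) →+* AdjoinRoot (linPoly u') :=
  AdjoinRoot.map φ _ _ (by rw [linPoly_map, funext h])

end Eval

/-- `1 + a + ⋯ + a^(j-1)`. -/
noncomputable def th (j : ℕ) (a : B) : B := ∑ t ∈ range j, a ^ t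

/-- `Σ a^t b^(j-1-t)`. -/
noncomputable def thH (j : ℕ) (a b : B) : B := ∑ t ∈ range j, a ^ t * b ^ (j - 1 - t)

theorem thH_eq (j : ℕ) (a : B) {b b' : B} (h : b' * b = 1) :
    thH j a b = b ^ (j - 1) * th j (a * b') := by
  rw [thH, th, mul_sum]
  refine sum_congr rfl fun t ht => ?_
  rw [mem_range] at ht
  obtain ⟨d, hd⟩ : ∃ d, j - 1 = t + d := ⟨j - 1 - t, by omega⟩
  rw [hd, Nat.add_sub_cancel_left, pow_add, mul_pow]
  have : b' ^ t * b ^ t = 1 := by rw [← mul_pow, h, one_pow]
  linear_combination (a ^ t * b ^ d) * this.symm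

theorem map_th {B' : Type*} [CommRing B'] (φ : B →+* B') (j : ℕ) (a : B) : φ (th j a) = th j (φ a) := by
  simp [th]

theorem map_thH {B' : Type*} [CommRing B'] (φ : B →+* B') (j : ℕ) (a b : B) :
    φ (thH j a b) = thH j (φ a) (φ b) := by
  simp [thH]

section Field

variable {L : Type*} [Field L]

theorem resTop_eq_sum (u : Fin (r + 1) → L) (hu : Function.Injective u) (y : AdjoinRoot (linPoly u)) :
    resTop (linPoly_monic u) r y =
      ∑ i, evalAt u i y * u i ^ r / ∏ k ∈ univ.erase i, (u i - u k) := by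
  rw [resTop_apply]
  set Q := AdjoinRoot.modByMonicHom (linPoly_monic u) (y * AdjoinRoot.root (linPoly u) ^ r) with hQ
  have hQd : Q.degree < #(univ : Finset (Fin (r + 1))) := by
    obtain ⟨Q', hQ'⟩ := AdjoinRoot.mk_surjective (y * AdjoinRoot.root (linPoly u) ^ r)
    rw [hQ, ← hQ', AdjoinRoot.modByMonicHom_mk, card_univ, Fintype.card_fin]
    refine (degree_modByMonic_lt _ (linPoly_monic u)).trans_le ?_
    rw [degree_eq_natDegree (linPoly_monic u).ne_zero, linPoly_natDegree]
  have h := Lagrange.coeff_eq_sum (v := u) (hu.injOn) hQd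
  rw [card_univ, Fintype.card_fin, Nat.add_sub_cancel] at h
  rw [h]
  refine sum_congr rfl fun i _ => ?_
  rw [← evalAt_mk u i Q, hQ, AdjoinRoot.mk_leftInverse (linPoly_monic u), map_mul, map_pow, evalAt_root]

theorem resTop_core_field (j : ℕ) (hjL : (j : L) ≠ 0) (u : Fin (r + 1) → L) (hu0 : ∀ i, u i ≠ 0)
    (hu : Function.Injective fun i => u i ^ j)
    (linv w : AdjoinRoot (linPoly u)) (hl : linv * AdjoinRoot.root _ = 1)
    (hw : w * ∏ k, th j (AdjoinRoot.of _ (u k) * linv) = 1) {n : ℕ} (hn : n ≤ r) :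
    resTop (linPoly_monic u) r ((j : AdjoinRoot (linPoly u)) * linv ^ (n * j) * w) = if n = 0 then 1 else 0 := by
  have huinj : Function.Injective u := fun a b h => hu (by simp [h])
  rw [resTop_eq_sum u huinj]
  have hterm : ∀ i, evalAt u i ((j : AdjoinRoot (linPoly u)) * linv ^ (n * j) * w) * u i ^ r /
      ∏ k ∈ univ.erase i, (u i - u k) =
      (u i ^ j) ^ (r - n) / ∏ k ∈ univ.erase i, (u i ^ j - u k ^ j) := by
    intro i
    have h0 := hu0 i
    have hli : evalAt u i linv = (u i)⁻¹ := by
      refine eq_inv_of_mul_eq_one_left ?_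
      rw [← evalAt_root u i, ← map_mul, hl, map_one]
    have hwi : evalAt u i w * ((j : L) * ∏ k ∈ univ.erase i, th j (u k * (u i)⁻¹)) = 1 := by
      have h := congrArg (evalAt u i) hw
      simp only [map_mul, map_prod, map_th, evalAt_of, hli, map_one] at h
      rw [← mul_prod_erase univ (fun k => th j (u k * (u i)⁻¹)) (mem_univ i)] at h
      rwa [show th j (u i * (u i)⁻¹) = (j : L) by simp [th, mul_inv_cancel₀ h0]] at h
    have hth : ∀ k, th j (u k * (u i)⁻¹) * (u i - u k) * u i ^ j = u i * (u i ^ j - u k ^ j) := by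
      intro k
      have h1 := geom_sum_mul_neg (u k * (u i)⁻¹) j
      have h2 : u i - u k = (1 - u k * (u i)⁻¹) * u i := by field_simp
      rw [h2, ← mul_assoc (th j _), show th j (u k * (u i)⁻¹) = ∑ t ∈ range j, (u k * (u i)⁻¹) ^ t from rfl, h1,
        mul_pow, inv_pow]
      field_simp
    have hd : ∏ k ∈ univ.erase i, (u i - u k) ≠ 0 :=
      prod_ne_zero_iff.2 fun k hk => sub_ne_zero.2 fun h => (mem_erase.1 hk).1 (huinj h).symm
    have hd' : ∏ k ∈ univ.erase i, (u i ^ j - u k ^ j) ≠ 0 :=
      prod_ne_zero_iff.2 fun k hk => sub_ne_zero.2 fun h => (mem_erase.1 hk).1 (hu h).symm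
    have hprod : (∏ k ∈ univ.erase i, th j (u k * (u i)⁻¹)) * (∏ k ∈ univ.erase i, (u i - u k)) *
        (u i ^ j) ^ r = u i ^ r * ∏ k ∈ univ.erase i, (u i ^ j - u k ^ j) := by
      have hc : ∀ a : L, a ^ r = ∏ _k ∈ univ.erase i, a := fun a => by simp
      rw [hc, hc, ← prod_mul_distrib, ← prod_mul_distrib, prod_congr rfl (fun k _ => hth k),
        prod_mul_distrib]
    simp only [map_mul, map_pow, map_natCast, hli, inv_pow]
    obtain ⟨d, rfl⟩ : ∃ d, r = n + d := ⟨r - n, by omega⟩
    rw [Nat.add_sub_cancel_left, div_eq_div_iff hd hd', mul_comm n j, pow_mul]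
    have hP : (∏ k ∈ univ.erase i, th j (u k * (u i)⁻¹)) ≠ 0 := fun h => by simp [h] at hwi
    field_simp
    linear_combination (-(evalAt u i w * (j : L))) * hprod + ((u i ^ j) ^ d * (u i ^ j) ^ n *
      ∏ k ∈ univ.erase i, (u i - u k)) * hwi
  rw [sum_congr rfl fun i _ => hterm i]
  have h := Lagrange.coeff_eq_sum (v := fun i => u i ^ j) (hu.injOn) (s := univ) (P := X ^ (r - n))
    (by rw [degree_X_pow, card_univ, Fintype.card_fin, Nat.cast_lt]; omega)
  rw [card_univ, Fintype.card_fin, Nat.add_sub_cancel, coeff_X_pow] at h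
  simp only [eval_pow, eval_X] at h
  rw [← h]
  congr 1
  exact propext ⟨fun h => by omega, fun h => by omega⟩

end Field

/-- The identity behind Adams–Riemann–Roch for an elementary projection. -/
theorem resTop_core [Nontrivial B] {j : ℕ} (hj : 1 ≤ j) (hjB : IsUnit (j : B)) (u : Fin (r + 1) → B)
    (hu : ∀ i, IsUnit (u i)) (linv w : AdjoinRoot (linPoly u)) (hl : linv * AdjoinRoot.root _ = 1)
    (hw : w * ∏ k, th j (AdjoinRoot.of _ (u k) * linv) = 1) {n : ℕ} (hn : n ≤ r) :
    resTop (linPoly_monic u) r ((j : AdjoinRoot (linPoly u)) * linv ^ (n * j) * w) = if n = 0 then 1 else 0 := by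
  classical
  let P₀ := MvPolynomial (Fin (r + 1)) ℤ
  let S : P₀ := (j : P₀) * (∏ i, MvPolynomial.X i) *
    ∏ i, ∏ k, thH j (MvPolynomial.X k) (MvPolynomial.X i)
  have hS0 : S ≠ 0 := fun h => by
    have := congrArg (MvPolynomial.eval fun _ => (1 : ℤ)) h
    simp [S, thH, show j ≠ 0 by omega] at this
  let A := Localization.Away S
  let x : Fin (r + 1) → A := fun i => algebraMap P₀ A (MvPolynomial.X i)
  have hle : Submonoid.powers S ≤ nonZeroDivisors P₀ := powers_le_nonZeroDivisors_of_noZeroDivisors hS0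
  haveI : IsDomain A := IsLocalization.isDomain_localization hle
  have hinjA : Function.Injective (algebraMap P₀ A) := IsLocalization.injective A hle
  have hSu : IsUnit (algebraMap P₀ A S) := IsLocalization.Away.algebraMap_isUnit S
  simp only [S, map_mul, map_prod, map_natCast, map_thH, IsUnit.mul_iff, IsUnit.prod_iff] at hSu
  obtain ⟨⟨hjA, hxu⟩, hthu⟩ := hSu
  have hroot : IsUnit (AdjoinRoot.root (linPoly x)) :=
    isUnit_of_evalAt x fun i => by rw [evalAt_root]; exact hxu i (mem_univ i)
  obtain ⟨lA, hlA⟩ := isUnit_iff_exists_inv'.1 hroot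
  have hprodA : IsUnit (∏ k, th j (AdjoinRoot.of (linPoly x) (x k) * lA)) := by
    refine isUnit_of_evalAt x fun i => ?_
    rw [map_prod, IsUnit.prod_iff]
    intro k _
    have hli : evalAt x i lA * x i = 1 := by
      have := congrArg (evalAt x i) hlA
      rwa [map_mul, evalAt_root, map_one] at this
    rw [map_th, map_mul, evalAt_of]
    have := hthu i (mem_univ i) k (mem_univ k)
    rw [thH_eq j _ hli] at this
    exact isUnit_of_mul_isUnit_right this
  obtain ⟨wA, hwA⟩ := isUnit_iff_exists_inv'.1 hprodA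
  -- the identity in `A`, via its fraction field
  have hA : resTop (linPoly_monic x) r ((j : AdjoinRoot (linPoly x)) * lA ^ (n * j) * wA) =
      if n = 0 then 1 else 0 := by
    let L := FractionRing A
    let xL : Fin (r + 1) → L := fun i => algebraMap A L (x i)
    let η := linMap x (algebraMap A L) xL fun _ => rfl
    have hinjL : Function.Injective ((algebraMap A L).comp (algebraMap P₀ A)) :=
      (IsFractionRing.injective A L).comp hinjA
    have hpow : Function.Injective fun i => xL i ^ j := by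
      intro a b hab
      have h1 : (MvPolynomial.X a : P₀) ^ j = MvPolynomial.X b ^ j := hinjL (by simpa [xL, x] using hab)
      by_contra hne
      have h2 := congrArg (MvPolynomial.eval fun i => if i = a then (0 : ℤ) else 1) h1
      simp [Ne.symm hne, show j ≠ 0 by omega] at h2
    have h0 : ∀ i, xL i ≠ 0 := fun i h => MvPolynomial.X_ne_zero i (hinjL (by
      rw [map_zero]; exact h))
    have hjL : (j : L) ≠ 0 := by
      intro h
      have : ((j : P₀)) = 0 := hinjL (by rw [map_natCast, map_zero]; exact h)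
      exact absurd (Nat.cast_eq_zero.1 this) (by omega)
    have key := resTop_core_field j hjL xL h0 hpow (η lA) (η wA)
      (by
        have := congrArg η hlA
        rwa [map_mul, map_one, show η (AdjoinRoot.root _) = AdjoinRoot.root _ by
          simp [η, linMap, AdjoinRoot.map]] at this)
      (by
        have := congrArg η hwA
        simp only [map_mul, map_prod, map_th, map_one] at this
        simpa [η, linMap, AdjoinRoot.map, xL] using this) hn
    apply IsFractionRing.injective A L
    rw [← resTop_map (algebraMap A L) (linPoly_monic x) (linPoly_monic xL) (linPoly_map _ _).symm]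
    have h3 : η ((j : AdjoinRoot (linPoly x)) * lA ^ (n * j) * wA) =
        (j : AdjoinRoot (linPoly xL)) * η lA ^ (n * j) * η wA := by simp
    change resTop (linPoly_monic xL) r (η _) = _
    rw [h3, key]
    split_ifs <;> simp
  -- specialisation
  have hthB : ∀ i k, IsUnit (thH j (u k) (u i)) := by
    intro i k
    have h := congrArg (evalAt u i) hw
    simp only [map_mul, map_prod, map_th, evalAt_of, map_one] at h
    have hli : evalAt u i linv * u i = 1 := by
      have := congrArg (evalAt u i) hl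
      rwa [map_mul, evalAt_root, map_one] at this
    rw [thH_eq j _ hli]
    exact ((hu i).pow _).mul (IsUnit.prod_iff.1 (IsUnit.of_mul_eq_one_right _ h) k (mem_univ k))
  let π : A →+* B := IsLocalization.Away.lift S (g := MvPolynomial.eval₂Hom (Int.castRingHom B) u) (by
    simp only [S, map_mul, map_prod, map_natCast, map_thH, MvPolynomial.eval₂Hom_X', IsUnit.mul_iff,
      IsUnit.prod_iff]
    refine ⟨⟨hjB, fun i _ => ?_⟩, fun i _ k _ => ?_⟩
    · simpa [P₀] using hu i
    · simpa [P₀] using hthB i k)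
  have hπ : ∀ k, π (x k) = u k := fun k => by simp [π, x, P₀, A]
  let η := linMap x π u hπ
  have hη1 : η (AdjoinRoot.root _) = AdjoinRoot.root _ := by simp [η, linMap, AdjoinRoot.map]
  have hl' : η lA = linv := by
    refine left_inv_eq_right_inv (a := AdjoinRoot.root (linPoly u)) ?_ (by rw [mul_comm]; exact hl)
    rw [← hη1, ← map_mul, hlA, map_one]
  have hw' : η wA = w := by
    refine left_inv_eq_right_inv (a := ∏ k, th j (AdjoinRoot.of _ (u k) * linv)) ?_ (by rw [mul_comm]; exact hw)
    have := congrArg η hwA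
    simp only [map_mul, map_prod, map_th, map_one, hl'] at this
    simpa [η, linMap, AdjoinRoot.map, hπ] using this
  have := congrArg π hA
  rw [← resTop_map π (linPoly_monic x) (linPoly_monic u) (by rw [linPoly_map, funext hπ])] at this
  change resTop _ r (η _) = _ at this
  rw [map_mul η, map_mul η, map_pow η, map_natCast η, hl', hw'] at this
  rw [this]
  split_ifs <;> simp

end Groth.Agent.KRRLib
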