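import Groth.Agent.Lambda.Elem
import Groth.Agent.Lambda.SymmEval
import Groth.Agent.KRRLib.Residue
import Mathlib.RingTheory.TensorProduct.Maps
import Mathlib.RingTheory.Flat.Localization
import Mathlib.RingTheory.Localization.Away.Basic
import Mathlib.RingTheory.Flat.Tensor
import Mathlib.RingTheory.Polynomial.Vieta

/-!
# Adams–Riemann–Roch for an elementary extension `K[T]/(p_e)`
-/

set_option autoImplicit false
set_option maxHeartbeats 1000000

universe v

open Finset LambdaRing TensorProduct Groth.Agent.Lambda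

namespace Groth.Agent.KRRLib

/-- A Bott class evaluated through a ring map in which the `λ^i` become elementary symmetric functions. -/
theorem bott_eval {K : Type v} [CommRing K] [LambdaOps K] (P : PosStructure K) {B : Type*} [CommRing B]
    (φ : K →+* B) (j : ℕ) (e : K) {m : ℕ} (u : Fin m → B) (hm : (P.aug e).toNat = m)
    (h : ∀ i : ℕ, i < m → φ (LambdaOps.lam (i + 1) e) =
      ((univ : Finset (Fin m)).val.map u).esymm (i + 1)) :
    φ (KRR.bott P j e) = ∏ a, th j (u a) := by
  subst hm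
  have h1 : MvPolynomial.esymmAlgHom (Fin (P.aug e).toNat) ℤ (P.aug e).toNat
      (KRR.bottPoly j (P.aug e).toNat) =
      ⟨KRR.bottSym j (P.aug e).toNat, KRR.bottSym_isSymmetric j _⟩ :=
    AlgEquiv.apply_symm_apply (MvPolynomial.esymmAlgEquiv (Fin (P.aug e).toNat) ℤ (Fintype.card_fin _)) _
  have h' := congrArg Subtype.val h1
  rw [MvPolynomial.esymmAlgHom_apply] at h'
  have h'' := congrArg (MvPolynomial.aeval u) h'
  rw [← AlgHom.comp_apply, MvPolynomial.comp_aeval] at h''
  have hc := MvPolynomial.comp_aeval (fun i : Fin (P.aug e).toNat => LambdaOps.lam (i.1 + 1) e) φ.toIntAlgHom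
  rw [KRR.bott, show φ (MvPolynomial.aeval (fun i : Fin (P.aug e).toNat => LambdaOps.lam (i.1 + 1) e)
      (KRR.bottPoly j (P.aug e).toNat)) = φ.toIntAlgHom (MvPolynomial.aeval
      (fun i : Fin (P.aug e).toNat => LambdaOps.lam (i.1 + 1) e) (KRR.bottPoly j (P.aug e).toNat)) from rfl,
    ← AlgHom.comp_apply, hc]
  have hval : (fun i : Fin (P.aug e).toNat => φ.toIntAlgHom (LambdaOps.lam ((i : ℕ) + 1) e)) =
      fun i : Fin (P.aug e).toNat => MvPolynomial.aeval u (MvPolynomial.esymm (Fin (P.aug e).toNat) ℤ ((i : ℕ) + 1)) := by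
    funext i
    rw [MvPolynomial.aeval_esymm_eq_multiset_esymm]
    exact h i i.2
  rw [hval]
  refine h''.trans ?_
  simp [KRR.bottSym, th]

theorem isUnit_add_nilpotent {A : Type*} [CommRing A] {u n : A} (hu : IsUnit u) (hn : IsNilpotent n) :
    IsUnit (u + n) :=
  hn.isUnit_add_left_of_commute hu (Commute.all _ _)

theorem esymm_map_mul {B : Type*} [CommRing B] {ι : Type*} (s : Multiset ι) (u : ι → B) (c : B) (n : ℕ) :
    (s.map fun a => u a * c).esymm n = c ^ n * (s.map u).esymm n := by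
  have h := Multiset.pow_smul_esymm c n (s.map u)
  rw [smul_eq_mul, Multiset.map_map] at h
  rw [h]
  exact congrArg (fun t => Multiset.esymm t n) (Multiset.map_congr rfl fun a _ => mul_comm _ _)

section Line

variable {K : Type v} [CommRing K] [LambdaOps K] {P : PosStructure K}

theorem lam_line_mul (hK : HasSplitting K P) {l : K} (hl : P.IsLine l) (x : K) (i : ℕ) :
    LambdaOps.lam i (l * x) = l ^ i * LambdaOps.lam i x := by
  have key : ∀ a ∈ P.pos, lamSeries (l * a) = PowerSeries.rescale l (lamSeries a) := by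
    intro a ha
    ext k
    rw [PowerSeries.coeff_rescale, coeff_lamSeries, coeff_lamSeries]
    obtain ⟨L, f, hf, -, s, hs, hsum, -⟩ := exists_split hK ha
    apply hf.injective
    rw [map_mul, map_pow, hf.isLambdaHom, hf.isLambdaHom, map_mul, ← hsum, lam_lines_sum hs,
      ← smul_eq_mul (f l), Multiset.smul_sum, lam_lines_sum (P := L.posStr), ← smul_eq_mul (f l ^ k),
      Multiset.pow_smul_esymm]
    intro u hu
    obtain ⟨c, hc, rfl⟩ := Multiset.mem_map.1 hu
    exact isLine_mul (map_isLine hf hl) (hs c hc)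
  obtain ⟨a, b, ha, hb, rfl⟩ := P.exists_sub x
  have h1 : lamSeries (l * (a - b)) * PowerSeries.rescale l (lamSeries b) =
      PowerSeries.rescale l (lamSeries (a - b)) * PowerSeries.rescale l (lamSeries b) := by
    rw [← key b hb, ← lamSeries_add, ← mul_add, sub_add_cancel, key b hb, ← map_mul, ← lamSeries_add,
      sub_add_cancel, key a ha]
  have hu : IsUnit (PowerSeries.rescale l (lamSeries b)) := by
    rw [PowerSeries.isUnit_iff_constantCoeff, ← PowerSeries.coeff_zero_eq_constantCoeff_apply,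
      PowerSeries.coeff_rescale, coeff_lamSeries, pow_zero, one_mul, LambdaOps.lam_zero]
    exact isUnit_one
  simpa [coeff_lamSeries, PowerSeries.coeff_rescale] using congrArg (PowerSeries.coeff i) (hu.mul_right_cancel h1)

end Line

theorem map_extPoly {K : Type v} [CommRing K] [LambdaOps K] (P : PosStructure K) (e : K)
    {B : Type*} [CommRing B] (φ : K →+* B) {r : ℕ} (u : Fin (r + 1) → B) (hm : (P.aug e).toNat = r + 1)
    (h : ∀ i, φ (LambdaOps.lam i e) = ((univ : Finset (Fin (r + 1))).val.map u).esymm i) :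
    (KRR.extPoly P e).map φ = linPoly u := by
  have hv := Multiset.prod_X_sub_X_eq_sum_esymm ((univ : Finset (Fin (r + 1))).val.map u)
  rw [Multiset.map_map, Multiset.card_map, card_val, card_univ, Fintype.card_fin] at hv
  rw [linPoly, Finset.prod_eq_multiset_prod]
  refine Eq.trans ?_ hv.symm
  rw [KRR.extPoly, Polynomial.map_sum, hm]
  refine sum_congr rfl fun i _ => ?_
  simp [h, mul_assoc]

section Tensor

variable {R A T : Type*} [CommRing R] [CommRing A] [CommRing T]

/-- The ring map out of a tensor product over `ℤ`. -/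
noncomputable def tensorLift (g₁ : R →+* T) (g₂ : A →+* T) : TensorProduct ℤ R A →+* T :=
  (Algebra.TensorProduct.lift g₁.toIntAlgHom g₂.toIntAlgHom fun _ _ => Commute.all _ _).toRingHom

theorem tensorLift_tmul (g₁ : R →+* T) (g₂ : A →+* T) (a : R) (y : A) :
    tensorLift g₁ g₂ (a ⊗ₜ[ℤ] y) = g₁ a * g₂ y :=
  Algebra.TensorProduct.lift_tmul _ _ _ a y

/-- The ring map `R ⊗ A → R ⊗ A'`. -/
noncomputable def tensorMap (R : Type*) [CommRing R] {A' : Type*} [CommRing A'] (g : A →+* A') :
    TensorProduct ℤ R A →+* TensorProduct ℤ R A' :=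
  (Algebra.TensorProduct.map (AlgHom.id ℤ R) g.toIntAlgHom).toRingHom

theorem tensorMap_tmul {A' : Type*} [CommRing A'] (g : A →+* A') (a : R) (y : A) :
    tensorMap R g (a ⊗ₜ[ℤ] y) = a ⊗ₜ[ℤ] g y := rfl

theorem tensorMap_injective [Module.Flat ℤ R] {A' : Type*} [CommRing A'] (g : A →+* A')
    (hg : Function.Injective g) : Function.Injective (tensorMap R g) :=
  Module.Flat.lTensor_preserves_injective_linearMap (M := R) g.toIntAlgHom.toLinearMap hg

theorem isUnit_one_tmul_natCast (n : ℕ) (hn : IsUnit (n : R)) :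
    IsUnit ((1 : R) ⊗ₜ[ℤ] (n : A)) := by
  rw [← Algebra.TensorProduct.natCast_def', Algebra.TensorProduct.natCast_def]
  exact hn.map (Algebra.TensorProduct.includeLeftRingHom (R := ℤ) (A := R) (B := A))

theorem isUnit_one_tmul_add_nilpotent (n : ℕ) (hn : IsUnit (n : R)) {ν : A} {N : ℕ} (hν : ν ^ N = 0) :
    IsUnit ((1 : R) ⊗ₜ[ℤ] ((n : A) + ν)) := by
  rw [tmul_add]
  refine isUnit_add_nilpotent (isUnit_one_tmul_natCast n hn) ⟨N, ?_⟩
  rw [Algebra.TensorProduct.tmul_pow, hν, tmul_zero]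

end Tensor

section Main

variable {K : Type v} [CommRing K] [LambdaOps K] {P : PosStructure K} {e : K} {r : ℕ}
  [LambdaOps (AdjoinRoot (KRR.extPoly P e))] {Pe : PosStructure (AdjoinRoot (KRR.extPoly P e))}
  {linv : AdjoinRoot (KRR.extPoly P e)}

theorem lam_q (hext : IsExtension P Pe (AdjoinRoot.of (KRR.extPoly P e)))
    (hline : Pe.IsLine (AdjoinRoot.root (KRR.extPoly P e)))
    (hsplit : HasSplitting (AdjoinRoot (KRR.extPoly P e)) Pe)
    (hlinv : linv * AdjoinRoot.root (KRR.extPoly P e) = 1) (i : ℕ) :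
    LambdaOps.lam i (AdjoinRoot.of (KRR.extPoly P e) e * linv) =
      linv ^ i * AdjoinRoot.of (KRR.extPoly P e) (LambdaOps.lam i e) := by
  have h := lam_line_mul hsplit hline (AdjoinRoot.of (KRR.extPoly P e) e * linv) i
  have hq : AdjoinRoot.root (KRR.extPoly P e) * (AdjoinRoot.of (KRR.extPoly P e) e * linv) =
      AdjoinRoot.of (KRR.extPoly P e) e := by
    rw [mul_left_comm, mul_comm (AdjoinRoot.root _), hlinv, mul_one]
  rw [hq, ← hext.isLambdaHom] at h
  rw [h, ← mul_assoc, ← mul_pow, hlinv, one_pow, one_mul]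

theorem aug_linv (hline : Pe.IsLine (AdjoinRoot.root (KRR.extPoly P e)))
    (hlinv : linv * AdjoinRoot.root (KRR.extPoly P e) = 1) : Pe.aug linv = 1 := by
  have := congrArg Pe.aug hlinv
  rwa [map_mul, hline.2, mul_one, map_one] at this

theorem aug_q (hr : P.aug e = r + 1) (hext : IsExtension P Pe (AdjoinRoot.of (KRR.extPoly P e)))
    (hline : Pe.IsLine (AdjoinRoot.root (KRR.extPoly P e)))
    (hlinv : linv * AdjoinRoot.root (KRR.extPoly P e) = 1) :
    (Pe.aug (AdjoinRoot.of (KRR.extPoly P e) e * linv)).toNat = r + 1 := by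
  rw [map_mul, hext.aug_comp, aug_linv hline hlinv, mul_one, hr]
  omega

theorem exists_bott_eq (hK : HasSplitting K P) (he : e ∈ P.pos) (hr : P.aug e = r + 1)
    (hext : IsExtension P Pe (AdjoinRoot.of (KRR.extPoly P e)))
    (hline : Pe.IsLine (AdjoinRoot.root (KRR.extPoly P e)))
    (hsplit : HasSplitting (AdjoinRoot (KRR.extPoly P e)) Pe) {N : ℕ}
    (hN : gammaFiltration Pe N = ⊥) (hlinv : linv * AdjoinRoot.root (KRR.extPoly P e) = 1) (j : ℕ) :
    ∃ ν : AdjoinRoot (KRR.extPoly P e), ν ^ N = 0 ∧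
      KRR.bott Pe j (AdjoinRoot.of (KRR.extPoly P e) e * linv) = ((j ^ (r + 1) : ℕ) : _) + ν := by
  have hm : (P.aug e).toNat = r + 1 := by omega
  refine ⟨KRR.bott Pe j (AdjoinRoot.of (KRR.extPoly P e) e * linv) - ((j ^ (r + 1) : ℕ) : _), ?_, by ring⟩
  have haug : Pe.aug (KRR.bott Pe j (AdjoinRoot.of (KRR.extPoly P e) e * linv)) = (j : ℤ) ^ (r + 1) := by
    rw [bott_eval Pe Pe.aug j _ (fun _ : Fin (r + 1) => (1 : ℤ)) (aug_q hr hext hline hlinv) fun i _ => ?_]
    · simp [th]
    · rw [lam_q hext hline hsplit hlinv, map_mul, map_pow, aug_linv hline hlinv, one_pow, one_mul,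
        hext.aug_comp, aug_lam hK he, hm, Finset.esymm_map_val]
      simp [card_powersetCard]
  have h1 := pow_mem (P := Pe) (m := 1) (mem_one_of_aug_eq_zero
    (x := KRR.bott Pe j (AdjoinRoot.of (KRR.extPoly P e) e * linv) - ((j ^ (r + 1) : ℕ) : _)) (by
      rw [map_sub, map_natCast, haug, Nat.cast_pow, sub_self])) N
  rw [mul_one, hN] at h1
  exact h1

omit [LambdaOps (AdjoinRoot (KRR.extPoly P e))] in
/-- Every element is a combination of the `ℓ^{-n}`, `n ≤ r`. -/
theorem exists_decomp (hpK : (KRR.extPoly P e).Monic) (hdeg : (KRR.extPoly P e).natDegree = r + 1)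
    (hlinv : linv * AdjoinRoot.root (KRR.extPoly P e) = 1) (y : AdjoinRoot (KRR.extPoly P e)) :
    ∃ c : ℕ → K, y = ∑ k ∈ range (r + 1), AdjoinRoot.of (KRR.extPoly P e) (c k) * linv ^ (r - k) ∧
      resTop hpK r y = c r := by
  set Q := AdjoinRoot.modByMonicHom hpK (y * AdjoinRoot.root (KRR.extPoly P e) ^ r) with hQ
  refine ⟨Q.coeff, ?_, rfl⟩
  have hdegQ : Q.natDegree < r + 1 := by
    obtain ⟨Q', hQ'⟩ := AdjoinRoot.mk_surjective (y * AdjoinRoot.root (KRR.extPoly P e) ^ r)
    rw [hQ, ← hQ', AdjoinRoot.modByMonicHom_mk, ← hdeg]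
    exact Polynomial.natDegree_modByMonic_lt _ hpK fun h => by simp [h] at hdeg
  have h1 : AdjoinRoot.mk (KRR.extPoly P e) Q * linv ^ r = y := by
    rw [hQ, AdjoinRoot.mk_leftInverse hpK, mul_assoc, ← mul_pow, mul_comm (AdjoinRoot.root _) linv,
      hlinv, one_pow, mul_one]
  conv_lhs => rw [← h1, Q.as_sum_range' (r + 1) hdegQ, map_sum, sum_mul]
  refine sum_congr rfl fun k hk => ?_
  rw [mem_range] at hk
  obtain ⟨d, hd⟩ : ∃ d, r = k + d := ⟨r - k, by omega⟩
  rw [← Polynomial.C_mul_X_pow_eq_monomial, map_mul, map_pow, AdjoinRoot.mk_C, AdjoinRoot.mk_X, hd,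
    Nat.add_sub_cancel_left, pow_add, mul_assoc, ← mul_assoc (_ ^ k), ← mul_pow,
    mul_comm (AdjoinRoot.root _) linv, hlinv, one_pow, one_mul]

/-- The identity after base change to a ring in which `e` splits. -/
theorem adams_split_identity (he : e ∈ P.pos) (hr : P.aug e = r + 1)
    (hext : IsExtension P Pe (AdjoinRoot.of (KRR.extPoly P e)))
    (hline : Pe.IsLine (AdjoinRoot.root (KRR.extPoly P e)))
    (hsplit : HasSplitting (AdjoinRoot (KRR.extPoly P e)) Pe)
    {f : AdjoinRoot (KRR.extPoly P e) →ₗ[K] K}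
    (hf : ∀ i : ℕ, i ≤ r → f (AdjoinRoot.root (KRR.extPoly P e) ^ i) = KRR.sigma i e)
    (hlinv : linv * AdjoinRoot.root (KRR.extPoly P e) = 1) {j : ℕ} (hj : 1 ≤ j)
    (hpK : (KRR.extPoly P e).Monic) (hdeg : (KRR.extPoly P e).natDegree = r + 1)
    {B : Type*} [CommRing B] [Nontrivial B] (hjB : IsUnit (j : B)) (φK : K →+* B) (uB : Fin (r + 1) → B)
    (huB : ∀ a, IsUnit (uB a))
    (hφlam : ∀ i, φK (LambdaOps.lam i e) = ((univ : Finset (Fin (r + 1))).val.map uB).esymm i)
    (hmap : (KRR.extPoly P e).map φK = linPoly uB) :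
    (∀ y, resTop (linPoly_monic uB) r
        (AdjoinRoot.map φK (KRR.extPoly P e) (linPoly uB) (hmap ▸ dvd_rfl) y) = φK (f y)) ∧
    ∀ W : AdjoinRoot (linPoly uB),
      W * AdjoinRoot.map φK (KRR.extPoly P e) (linPoly uB) (hmap ▸ dvd_rfl)
          (KRR.bott Pe j (AdjoinRoot.of (KRR.extPoly P e) e * linv)) = 1 →
      ∀ x, φK (adams P j (f x)) = resTop (linPoly_monic uB) r ((j : AdjoinRoot (linPoly uB)) * W *
        AdjoinRoot.map φK (KRR.extPoly P e) (linPoly uB) (hmap ▸ dvd_rfl) (adams Pe j x)) := by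
  set ρ := AdjoinRoot.map φK (KRR.extPoly P e) (linPoly uB) (hmap ▸ dvd_rfl) with hρ
  have hρof : ∀ a, ρ (AdjoinRoot.of (KRR.extPoly P e) a) = AdjoinRoot.of (linPoly uB) (φK a) := fun a => by
    rw [hρ, AdjoinRoot.map_of]
  have hflinv : ∀ n, n ≤ r → f (linv ^ n) = if n = 0 then 1 else 0 := by
    intro n hn
    rcases Nat.eq_zero_or_pos n with rfl | hn0
    · rw [pow_zero, if_pos rfl, ← pow_zero (AdjoinRoot.root (KRR.extPoly P e)), hf 0 (Nat.zero_le _),
        sigma_zero]
    · rw [if_neg (by omega), functional_linv_pow he hr hf hlinv n hn0 hn]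
  have hfres : ∀ y, f y = resTop hpK r y := by
    intro y
    obtain ⟨c, hc, hres⟩ := exists_decomp hpK hdeg hlinv y
    rw [hres, hc, map_sum, sum_eq_single r]
    · rw [Nat.sub_self, functional_of_mul, hflinv 0 (Nat.zero_le _), if_pos rfl, mul_one]
    · intro k hk hkr
      rw [mem_range] at hk
      rw [functional_of_mul, hflinv _ (by omega), if_neg (by omega), mul_zero]
    · simp
  refine ⟨fun y => by rw [hρ, resTop_map φK hpK (linPoly_monic uB) hmap.symm, hfres], fun W hW x => ?_⟩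
  have hlB : ρ linv * AdjoinRoot.root (linPoly uB) = 1 := by
    have := congrArg ρ hlinv
    rwa [map_mul ρ, map_one ρ, hρ, AdjoinRoot.map_root] at this
  have hwB : W * ∏ k, th j (AdjoinRoot.of (linPoly uB) (uB k) * ρ linv) = 1 := by
    rwa [bott_eval Pe ρ j (AdjoinRoot.of (KRR.extPoly P e) e * linv) (fun k => AdjoinRoot.of (linPoly uB) (uB k) * ρ linv)
      (aug_q hr hext hline hlinv) fun i _ => ?_] at hW
    rw [lam_q hext hline hsplit hlinv, map_mul ρ, map_pow ρ, hρof, hφlam, esymm_map_mul]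
    simp only [Finset.esymm_map_val, map_sum, map_prod]
  have hψl : adams Pe j linv = linv ^ j := by
    refine left_inv_eq_right_inv (a := AdjoinRoot.root (KRR.extPoly P e) ^ j) ?_ (by
      rw [← mul_pow, mul_comm, hlinv, one_pow])
    rw [← adams_line hline j, ← adams_mul hsplit, hlinv, adams_one]
  have hψ : ∀ (a : K) (n : ℕ), adams Pe j (AdjoinRoot.of (KRR.extPoly P e) a * linv ^ n) =
      AdjoinRoot.of (KRR.extPoly P e) (adams P j a) * linv ^ (n * j) := by
    intro a n
    rw [adams_mul hsplit, map_adams hext.isLambdaHom hext.aug_comp,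
      show adams Pe j (linv ^ n) = adams Pe j linv ^ n from map_pow (adamsRingHom hsplit j) linv n,
      hψl, ← pow_mul, mul_comm n j]
  obtain ⟨c, hc, -⟩ := exists_decomp hpK hdeg hlinv x
  subst hc
  simp only [map_sum f, ← adamsHom_apply, map_sum (adamsHom P j), map_sum (adamsHom Pe j), map_sum φK,
    map_sum ρ, mul_sum, map_sum (resTop (linPoly_monic uB) r)]
  refine sum_congr rfl fun k hk => ?_
  rw [mem_range] at hk
  rw [adamsHom_apply, adamsHom_apply, hψ, map_mul ρ, map_pow ρ, functional_of_mul, hflinv _ (by omega),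
    hρof,
    show ((j : AdjoinRoot (linPoly uB)) * W * (AdjoinRoot.of (linPoly uB) (φK (adams P j (c k))) *
      ρ linv ^ ((r - k) * j))) = AdjoinRoot.of (linPoly uB) (φK (adams P j (c k))) *
        ((j : AdjoinRoot (linPoly uB)) * ρ linv ^ ((r - k) * j) * W) by ring,
    resTop_of_mul, resTop_core hj hjB uB huB (ρ linv) W hlB hwB (by omega)]
  split_ifs
  · rw [mul_one, mul_one]
  · rw [mul_zero, mul_zero, ← adamsHom_apply, map_zero (adamsHom P j), map_zero φK]

theorem adams_elementary_projection (hK : HasSplitting K P) (he : e ∈ P.pos) (hr : P.aug e = r + 1)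
    (hext : IsExtension P Pe (AdjoinRoot.of (KRR.extPoly P e)))
    (hline : Pe.IsLine (AdjoinRoot.root (KRR.extPoly P e)))
    (hsplit : HasSplitting (AdjoinRoot (KRR.extPoly P e)) Pe) {N : ℕ}
    (hN : gammaFiltration Pe N = ⊥) (f : AdjoinRoot (KRR.extPoly P e) →ₗ[K] K)
    (hf : ∀ i : ℕ, i ≤ r → f (AdjoinRoot.root (KRR.extPoly P e) ^ i) = KRR.sigma i e)
    (hlinv : linv * AdjoinRoot.root (KRR.extPoly P e) = 1)
    (j : ℕ) (hj : 1 ≤ j) (R : Type*) [CommRing R] [Module.Flat ℤ R] (hjR : IsUnit (j : R)) :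
    (∃ w : TensorProduct ℤ R (AdjoinRoot (KRR.extPoly P e)), w * ((1 : R) ⊗ₜ[ℤ] KRR.bott Pe j (AdjoinRoot.of (KRR.extPoly P e) e * linv)) = 1) ∧
    ∀ w : TensorProduct ℤ R (AdjoinRoot (KRR.extPoly P e)), w * ((1 : R) ⊗ₜ[ℤ] KRR.bott Pe j (AdjoinRoot.of (KRR.extPoly P e) e * linv)) = 1 →
      ∀ x : AdjoinRoot (KRR.extPoly P e),
        (1 : R) ⊗ₜ[ℤ] LambdaRing.adams P j (f x) =
          LinearMap.lTensor R f.toAddMonoidHom.toIntLinearMap
            ((j : TensorProduct ℤ R (AdjoinRoot (KRR.extPoly P e))) * w * ((1 : R) ⊗ₜ[ℤ] LambdaRing.adams Pe j x)) := by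
  have hm : (P.aug e).toNat = r + 1 := by omega
  constructor
  · obtain ⟨ν, hν, hb⟩ := exists_bott_eq hK he hr hext hline hsplit hN hlinv j
    rw [hb]
    exact ⟨_, (isUnit_one_tmul_add_nilpotent _ (by rw [Nat.cast_pow]; exact hjR.pow _) hν).val_inv_mul⟩
  intro w hw x
  obtain ⟨L, ι, hι, -, s, hs, hsum, hcard⟩ := exists_split hK he
  obtain ⟨m, u, hum, hu⟩ := exists_enum s
  obtain rfl : m = r + 1 := by omega
  have hul : ∀ a, L.posStr.IsLine (u a) := fun a =>
    hs _ (by rw [← hu]; exact Multiset.mem_map_of_mem u (Finset.mem_univ_val a))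
  have hιlam : ∀ i, ι (LambdaOps.lam i e) = ((univ : Finset (Fin (r + 1))).val.map u).esymm i := fun i => by
    rw [hι.isLambdaHom, ← hsum, lam_lines_sum hs, hu]
  have hmapL := map_extPoly P e ι u hm hιlam
  haveI : Nontrivial L.carrier := L.posStr.aug.domain_nontrivial
  have hpK : (KRR.extPoly P e).Monic :=
    Polynomial.monic_of_injective hι.injective (by rw [hmapL]; exact linPoly_monic u)
  have hdeg : (KRR.extPoly P e).natDegree = r + 1 := by
    rw [← Polynomial.natDegree_map_eq_of_injective hι.injective, hmapL, linPoly_natDegree]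
  let iR : L.carrier →+* TensorProduct ℤ R L.carrier :=
    (Algebra.TensorProduct.includeRight (R := ℤ) (A := R) (B := L.carrier)).toRingHom
  let iL : R →+* TensorProduct ℤ R L.carrier :=
    Algebra.TensorProduct.includeLeftRingHom (R := ℤ) (A := R) (B := L.carrier)
  have hinj := tensorMap_injective (R := R) ι hι.injective
  rcases subsingleton_or_nontrivial (TensorProduct ℤ R L.carrier) with hB | hB
  · exact hinj (Subsingleton.elim _ _)
  have hφlam : ∀ i, (iR.comp ι) (LambdaOps.lam i e) =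
      ((univ : Finset (Fin (r + 1))).val.map (fun a => iR (u a))).esymm i := fun i => by
    simp only [RingHom.comp_apply, hιlam, Finset.esymm_map_val, map_sum, map_prod]
  have hmap := map_extPoly P e (iR.comp ι) (fun a => iR (u a)) hm hφlam
  obtain ⟨hres, hid⟩ := adams_split_identity he hr hext hline hsplit hf hlinv hj hpK hdeg
    (by simpa using hjR.map iL) (iR.comp ι) (fun a => iR (u a)) (fun a => (isUnit_line (hul a)).map iR)
    hφlam hmap
  set ρ := AdjoinRoot.map (iR.comp ι) (KRR.extPoly P e) (linPoly fun a => iR (u a)) (hmap ▸ dvd_rfl)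
  let Φ := tensorLift ((AdjoinRoot.of (linPoly fun a => iR (u a))).comp iL) ρ
  have hΦ1 : ∀ y, Φ ((1 : R) ⊗ₜ[ℤ] y) = ρ y := fun y => by
    rw [tensorLift_tmul, map_one, one_mul]
  have hΦres : ∀ Z, tensorMap R ι (LinearMap.lTensor R f.toAddMonoidHom.toIntLinearMap Z) =
      resTop (linPoly_monic fun a => iR (u a)) r (Φ Z) := by
    intro Z
    induction Z using TensorProduct.induction_on with
    | zero => simp
    | tmul a y =>
      rw [tensorLift_tmul, RingHom.comp_apply, resTop_of_mul, hres, RingHom.comp_apply,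
        LinearMap.lTensor_tmul, tensorMap_tmul]
      simp [iL, iR]
    | add a b ha hb => simp only [map_add, ha, hb]
  apply hinj
  rw [hΦres, map_mul Φ, map_mul Φ, map_natCast Φ, hΦ1, tensorMap_tmul]
  refine Eq.trans ?_ (hid (Φ w) ?_ x)
  · rfl
  · have h := congrArg Φ hw
    rwa [map_mul Φ, map_one Φ, hΦ1] at h

end Main

theorem flat_away (j : ℕ) : Module.Flat ℤ (Localization.Away (j : ℤ)) := by
  convert IsLocalization.flat (Localization.Away (j : ℤ)) (Submonoid.powers (j : ℤ))
  all_goals first | rfl | exact Subsingleton.elim _ _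

theorem isUnit_natCast_away (j : ℕ) : IsUnit (j : Localization.Away (j : ℤ)) := by
  simpa using IsLocalization.Away.algebraMap_isUnit (S := Localization.Away (j : ℤ)) (j : ℤ)

end Groth.Agent.KRRLib
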