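import Groth.Agent.KRRLib.ConeNilp
import Groth.Agent.KRRLib.Rank
import Groth.Agent.AmpleX.Generated
import Groth.Agent.AmpleX.Separated
import Groth.Agent.QCoh.SupportFT
import Mathlib.RingTheory.Nilpotent.Lemmas

/-!
# The augmentation ideal of `K(X)` is nil, for `X` with an ample invertible module
-/

set_option autoImplicit false
set_option backward.isDefEq.respectTransparency false
set_option backward.isDefEq.respectTransparency.types false

universe v u

open CategoryTheory CategoryTheory.Limits AlgebraicGeometry TopologicalSpace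

namespace Groth.Agent.KRRLib

open Groth.Agent

variable {X : Scheme.{u}}

/-- Global sections whose germs at `x` span define a map from a free module which is an isomorphism near `x`. -/
theorem exists_hom_free {E : X.Modules} {r : ℕ} (hE : FlatMod.IsFinLocFreeOfRank r E) {ι : Type u} (s : ι → Γ(E, ⊤))
    (hs : ProjUP.GeneratedBy E s) (x : X) :
    ∃ (φ : FlatMod.freeMod X r ⟶ E) (U : X.Opens), x ∈ U ∧
      ∀ y ∈ U, IsIso ((DerSch.stalkFunctor X y).map φ) := by
  have hflf := flf_of_rank hE
  haveI : Module.Free (X.presheaf.stalk x) (E.presheaf.stalk x) := QCoh.free_stalk_of_isFinLocFree hflf x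
  haveI := finite_stk hflf x
  haveI : Module.FinitePresentation (X.presheaf.stalk x) (E.presheaf.stalk x) :=
    Module.finitePresentation_of_projective _ _
  obtain ⟨κ, a, b, hb⟩ := Module.exists_basis_of_span_of_flat
    (fun i => (E.presheaf.germ ⊤ x trivial).hom (s i)) (hs x)
  haveI : Finite κ := Module.Finite.finite_basis b
  haveI := Fintype.ofFinite κ
  have hcard : Fintype.card κ = r := by rw [← Module.finrank_eq_card_basis b]; exact finrank_stk hE x
  let σ : Fin r ≃ κ := (finCongr hcard.symm).trans (Fintype.equivFin κ).symm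
  let t : Fin r → Γ(E, ⊤) := fun k => s (a (σ k))
  let φ : FlatMod.freeMod X r ⟶ E := Sigma.desc fun k => InvX.ofSect (t k)
  have hiso : ∀ y : X, Function.Surjective ((DerSch.stalkFunctor X y).map φ) →
      IsIso ((DerSch.stalkFunctor X y).map φ) := fun y hy => by
    have hF := rank_freeMod (X := X) r
    haveI : Module.Free (X.presheaf.stalk y) ((DerSch.stalkFunctor X y).obj (FlatMod.freeMod X r)) :=
      QCoh.free_stalk_of_isFinLocFree (flf_of_rank hF) y
    haveI : Module.Free (X.presheaf.stalk y) ((DerSch.stalkFunctor X y).obj E) :=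
      QCoh.free_stalk_of_isFinLocFree hflf y
    haveI : Module.Finite (X.presheaf.stalk y) ((DerSch.stalkFunctor X y).obj (FlatMod.freeMod X r)) :=
      finite_stk (flf_of_rank hF) y
    haveI : Module.Finite (X.presheaf.stalk y) ((DerSch.stalkFunctor X y).obj E) := finite_stk hflf y
    have hrk : Module.finrank (X.presheaf.stalk y) ((DerSch.stalkFunctor X y).obj (FlatMod.freeMod X r)) =
        Module.finrank (X.presheaf.stalk y) ((DerSch.stalkFunctor X y).obj E) :=
      (finrank_stk hF y).trans (finrank_stk hE y).symm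
    let l := LinearEquiv.ofFinrankEq _ _ hrk.symm
    refine (ConcreteCategory.isIso_iff_bijective _).2 ⟨?_, hy⟩
    have hsurj : Function.Surjective (((DerSch.stalkFunctor X y).map φ).hom ∘ₗ l.toLinearMap) :=
      hy.comp l.surjective
    have := (OrzechProperty.injective_of_surjective_endomorphism _ hsurj)
    intro p q hpq
    obtain ⟨p, rfl⟩ := l.surjective p
    obtain ⟨q, rfl⟩ := l.surjective q
    exact congrArg l (this hpq)
  let Q := cokernel φ
  have hQ : Coh.IsCoh Q := QCoh.isCoh_cokernel (QCoh.isQCoh_of_isFinLocFree (flf_of_rank (rank_freeMod r)))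
    ⟨QCoh.isQCoh_of_isFinLocFree hflf, QCoh.isFT_of_isFP (QCoh.isFP_of_isFinLocFree hflf)⟩ φ
  have hsupp : ∀ y : X, y ∉ CohB1.support Q ↔ Function.Surjective ((DerSch.stalkFunctor X y).map φ) := fun y => by
    rw [← ModuleCat.epi_iff_surjective]
    constructor
    · intro hy
      haveI : Subsingleton ((DerSch.stalkFunctor X y).obj Q) := Classical.not_not.1 hy
      exact Preadditive.epi_of_isZero_cokernel _
        ((ModuleCat.isZero_of_subsingleton _).of_iso (PreservesCokernel.iso (DerSch.stalkFunctor X y) φ).symm)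
    · intro he hy
      exact hy (ModuleCat.subsingleton_of_isZero
        ((isZero_cokernel_of_epi ((DerSch.stalkFunctor X y).map φ)).of_iso
          (PreservesCokernel.iso (DerSch.stalkFunctor X y) φ)))
  refine ⟨φ, ⟨_, (QCoh.isClosed_support_of_ft hQ.2).isOpen_compl⟩, (hsupp x).2 ?_, fun y hy => hiso y ((hsupp y).1 hy)⟩
  show Function.Surjective ((DerSch.stalkFunctor X x).map φ).hom
  rw [← LinearMap.range_eq_top, ← top_le_iff, ← b.span_eq, Submodule.span_le]
  rintro _ ⟨k, rfl⟩
  obtain ⟨k, rfl⟩ := σ.surjective k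
  refine ⟨(FlatMod.freeMod X r).presheaf.germ ⊤ x trivial
    (InvX.one (Sigma.ι (fun _ : Fin r => Coh.structureModule X) k)), ?_⟩
  refine (DerSch.stalkFunctor_map_germ x φ ⊤ trivial _).trans ?_
  rw [hb]
  refine congrArg ((E.presheaf.germ ⊤ x trivial).hom) ?_
  show InvX.one (Sigma.ι (fun _ : Fin r => Coh.structureModule X) k ≫ φ) = t k
  rw [Sigma.ι_desc]
  exact InvX.one_ofSect (t k)

section Model

variable {K : Type v} [CommRing K] [LambdaRing.LambdaOps K] {P : LambdaRing.PosStructure K} {φK : SGA6.Kvb X →+ K}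
  (hK : KRR.IsModel X K P φK)

include hK in
theorem cl_freeMod (r : ℕ) : φK (KRR.cl X (FlatMod.freeMod X r)) = (r : K) := by
  have hO : FlatMod.IsFinLocFree (Coh.structureModule X) :=
    flf_iso (coproductUniqueIso fun _ : Fin 1 => Coh.structureModule X) (KFlatLib.isFinLocFree_freeMod 1)
  induction r with
  | zero =>
    rw [show KRR.cl X (FlatMod.freeMod X 0) = 0 from KZ.clSub_isZero _ KFlatLib.isZero_freeMod_zero, map_zero,
      Nat.cast_zero]
  | succ r ih =>
    let O : Fin (r + 1) → X.Modules := fun _ => Coh.structureModule X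
    let e : FlatMod.freeMod X (r + 1) ≅ Coh.structureModule X ⊞ FlatMod.freeMod X r :=
      { hom := Sigma.desc (Fin.cases biprod.inl fun i => Sigma.ι (fun _ : Fin r => Coh.structureModule X) i ≫ biprod.inr)
        inv := biprod.desc (Sigma.ι O 0) (Sigma.desc fun i => Sigma.ι O i.succ)
        hom_inv_id := Sigma.hom_ext _ _ fun i => by cases i using Fin.cases <;> simp [O]
        inv_hom_id := by
          apply biprod.hom_ext'
          · simp [O]
          · refine Sigma.hom_ext _ _ fun i => ?_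
            simp [O] }
    rw [cl_iso e (flf_of_rank (rank_freeMod _)), cl_ses
      (ShortComplex.Splitting.ofHasBinaryBiproduct (Coh.structureModule X) (FlatMod.freeMod X r)).shortExact hO
      (KFlatLib.isFinLocFree_biprod hO (flf_of_rank (rank_freeMod r))) (flf_of_rank (rank_freeMod r)), map_add,
      show φK (KRR.cl X (Coh.structureModule X)) = 1 from hK.map_one, ih, Nat.cast_succ, add_comm]

include hK in
theorem cl_pow {L : X.Modules} (hL : PicF.IsInvertible L) (n : ℕ) :
    φK (KRR.cl X L) ^ n = φK (KRR.cl X (CohB1.tensorPow L n)) := by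
  induction n with
  | zero => rw [pow_zero]; exact hK.map_one.symm
  | succ n ih =>
    rw [pow_succ, ih, hK.map_mul _ _ (H23.PullPush.isFinLocFree_of_isInvertible (InvX.isInvertible_tensorPow hL n))
      (H23.PullPush.isFinLocFree_of_isInvertible hL)]
    rfl

include hK in
theorem isLine_cl {L : X.Modules} (hL : PicF.IsInvertible L) : P.IsLine (φK (KRR.cl X L)) := by
  have hL1 : FlatMod.IsFinLocFreeOfRank 1 L := fun x => by
    obtain ⟨U, hx, ⟨e⟩⟩ := hL x
    exact ⟨U, hx, ⟨e ≪≫ (coproductUniqueIso fun _ : Fin 1 => Coh.structureModule (U : Scheme.{u})).symm⟩⟩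
  exact ⟨(hK.mem_pos_iff _).2 ⟨1, L, le_rfl, hL1, rfl⟩, hK.aug_cl 1 L hL1⟩

include hK in
/-- Large twists differ from their rank by a nilpotent. -/
theorem isNilpotent_twist_sub [CompactSpace X] [X.IsSeparated] [PreconnectedSpace X] [Nonempty X] {L : X.Modules}
    (hL : CohB1.IsAmple L) {E : X.Modules} {r : ℕ} (hE : FlatMod.IsFinLocFreeOfRank r E) :
    ∃ n₀ : ℕ, ∀ n, n₀ ≤ n → IsNilpotent (φK (KRR.cl X E) * φK (KRR.cl X L) ^ n - (r : K)) := by
  have hflf := flf_of_rank hE
  have hLf : FlatMod.IsFinLocFree L := H23.PullPush.isFinLocFree_of_isInvertible hL.1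
  have hO : FlatMod.IsFinLocFree (Coh.structureModule X) :=
    flf_iso (coproductUniqueIso fun _ : Fin 1 => Coh.structureModule X) (KFlatLib.isFinLocFree_freeMod 1)
  have hfree : ∀ r : ℕ, φK (KRR.cl X (FlatMod.freeMod X r)) = (r : K) := fun r => cl_freeMod hK r
  have hpow : ∀ n, φK (KRR.cl X L) ^ n = φK (KRR.cl X (CohB1.tensorPow L n)) := fun n => cl_pow hK hL.1 n
  obtain ⟨n₀, hn₀⟩ := AmpleX.eventually_generated hL (QCoh.isQCoh_of_isFinLocFree hflf)
    (QCoh.isFT_of_isFP (QCoh.isFP_of_isFinLocFree hflf))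
  refine ⟨n₀, fun n hn => ?_⟩
  obtain ⟨G, iso, ι, s, hs⟩ := hn₀ n hn
  have hLn : FlatMod.IsFinLocFree (CohB1.tensorPow L n) :=
    H23.PullPush.isFinLocFree_of_isInvertible (InvX.isInvertible_tensorPow hL.1 n)
  have hT : FlatMod.IsFinLocFree (CohB1.tensorMod E (CohB1.tensorPow L n)) := KFlatLib.isFinLocFree_tensor hflf hLn
  have hG : FlatMod.IsFinLocFree G := flf_iso iso.symm hT
  have hclG : φK (KRR.cl X G) = φK (KRR.cl X E) * φK (KRR.cl X L) ^ n := by
    rw [cl_iso iso hG, hpow, hK.map_mul _ _ hflf hLn]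
    rfl
  obtain ⟨r', hr'⟩ := exists_rank hG
  obtain rfl : r' = r := by
    have h := congrArg P.aug hclG
    rw [map_mul, map_pow, hK.aug_cl r' G hr', hK.aug_cl r E hE, (isLine_cl hK hL.1).2, one_pow,
      mul_one] at h
    exact_mod_cast h
  choose φ U hxU hU using exists_hom_free hr' s hs
  obtain ⟨S, hS⟩ := isCompact_univ.elim_finite_subcover (fun x => (U x : Set X)) (fun x => (U x).2)
    fun x _ => Set.mem_iUnion.2 ⟨x, hxU x⟩
  let q := S.equivFin.symm
  have h := prod_sub_eq_zero φK hK.map_one hK.map_mul hO S.card (fun _ => FlatMod.freeMod X r') (fun _ => G)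
    (fun _ => flf_of_rank (rank_freeMod r')) (fun _ => hG) (fun j => φ (q j).1) fun y => by
      obtain ⟨x, hx, hy⟩ := Set.mem_iUnion₂.1 (hS (Set.mem_univ y))
      obtain ⟨j, hj⟩ := q.surjective ⟨x, hx⟩
      exact ⟨j, by rw [hj]; exact hU x y hy⟩
  rw [Fin.prod_const, hclG, hfree] at h
  exact ⟨S.card, h⟩

include hK in
theorem isNilpotent_sub_rank [CompactSpace X] [X.IsSeparated] [PreconnectedSpace X] [Nonempty X] {L : X.Modules}
    (hL : CohB1.IsAmple L) {E : X.Modules} {r : ℕ} (hE : FlatMod.IsFinLocFreeOfRank r E) :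
    IsNilpotent (φK (KRR.cl X E) - (r : K)) := by
  let q := Ideal.Quotient.mk (nilradical K)
  have hq : ∀ a b : K, q a = q b ↔ IsNilpotent (a - b) := fun a b => by
    rw [Ideal.Quotient.eq, mem_nilradical]
  obtain ⟨m, hm⟩ := isNilpotent_twist_sub hK hL (rank_freeMod (X := X) 1)
  obtain ⟨n₀, hn⟩ := isNilpotent_twist_sub hK hL hE
  let u := φK (KRR.cl X L)
  have h1 : φK (KRR.cl X (FlatMod.freeMod X 1)) = 1 := by
    rw [cl_iso (coproductUniqueIso fun _ : Fin 1 => Coh.structureModule X) (flf_of_rank (rank_freeMod 1))]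
    exact hK.map_one
  have hone : ∀ n, m ≤ n → q u ^ n = 1 := fun n h => by
    have := (hq _ _).2 (hm n h)
    rwa [h1, one_mul, Nat.cast_one, map_pow, map_one] at this
  have hu : q u = 1 := by
    have e := hone (m + 1) (Nat.le_succ m)
    rwa [pow_succ, hone m le_rfl, one_mul] at e
  have := (hq _ _).2 (hn n₀ le_rfl)
  rw [map_mul, map_pow, hu, one_pow, mul_one] at this
  exact (hq _ _).1 this

include hK in
/-- Elements of augmentation zero are nilpotent. -/
theorem isNilpotent_of_aug [ConnectedSpace X] {L : X.Modules} (hL : CohB1.IsAmple L) (x : K) (hx : P.aug x = 0) :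
    IsNilpotent x := by
  haveI := hL.2.1
  haveI := AmpleX.isSeparated_of_isAmple hL
  have key : ∀ e ∈ P.pos, IsNilpotent (e - ((P.aug e : ℤ) : K)) := fun e he => by
    obtain ⟨n, E, -, hn, rfl⟩ := (hK.mem_pos_iff e).1 he
    rw [hK.aug_cl n E hn, Int.cast_natCast]
    exact isNilpotent_sub_rank hK hL hn
  obtain ⟨e, f, he, hf, rfl⟩ := P.exists_sub x
  rw [map_sub, sub_eq_zero] at hx
  have := (Commute.all _ _).isNilpotent_sub (key e he) (key f hf)
  rwa [hx, sub_sub_sub_cancel_right] at this

include hK in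
theorem lam_cl_rank_zero {E : X.Modules} (hE : FlatMod.IsFinLocFreeOfRank 0 E) (j : ℕ) (hj : 1 ≤ j) :
    LambdaRing.LambdaOps.lam j (φK (KRR.cl X E)) = 0 := by
  have _ := hK.bijective
  have hz : IsZero E := KFlatLib.isZero_of_stalk _ fun x => by
    haveI : Module.Free (X.presheaf.stalk x) ((DerSch.stalkFunctor X x).obj E) :=
      QCoh.free_stalk_of_isFinLocFree (flf_of_rank hE) x
    haveI : Module.Finite (X.presheaf.stalk x) ((DerSch.stalkFunctor X x).obj E) := finite_stk (flf_of_rank hE) x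
    haveI := (Module.finBasisOfFinrankEq (X.presheaf.stalk x) ((DerSch.stalkFunctor X x).obj E)
      (finrank_stk hE x)).equivFun.toEquiv.subsingleton
    exact ModuleCat.isZero_of_subsingleton _
  rw [show KRR.cl X E = 0 from KZ.clSub_isZero _ hz, map_zero]
  induction j using Nat.strong_induction_on with
  | _ j ih =>
    obtain ⟨k, rfl⟩ : ∃ k, j = k + 1 := ⟨j - 1, by omega⟩
    have h := LambdaRing.LambdaOps.lam_add (k + 1) (0 : K) 0
    rw [add_zero, Finset.sum_range_succ, Finset.sum_range_succ', LambdaRing.LambdaOps.lam_zero,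
      Finset.sum_eq_zero (fun i hi => by rw [ih (i + 1) (by simp at hi; omega) (by omega), zero_mul]), zero_add,
      Nat.sub_zero, Nat.sub_self, LambdaRing.LambdaOps.lam_zero, one_mul, mul_one] at h
    exact left_eq_add.1 h

include hK in
/-- An ample invertible module gives an ample line element. -/
theorem isAmpleElt [ConnectedSpace X] {L : X.Modules} (hL : CohB1.IsAmple L) :
    KRR.IsAmpleElt P (φK (KRR.cl X L)) := by
  classical
  haveI := hL.2.1
  haveI := AmpleX.isSeparated_of_isAmple hL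
  let u := φK (KRR.cl X L)
  refine ⟨isLine_cl hK hL.1, fun x => ?_⟩
  obtain ⟨e, f, he, hf, rfl⟩ := P.exists_sub x
  obtain ⟨d, F, hd1, hF, rfl⟩ := (hK.mem_pos_iff f).1 hf
  have hFl := flf_of_rank hF
  obtain ⟨n₀, hn₀⟩ := AmpleX.eventually_generated hL (QCoh.isQCoh_of_isFinLocFree hFl)
    (QCoh.isFT_of_isFP (QCoh.isFP_of_isFinLocFree hFl))
  refine ⟨n₀, fun n hn => ?_⟩
  obtain ⟨G, iso, ι, s, hs⟩ := hn₀ n hn
  have hLn : FlatMod.IsFinLocFree (CohB1.tensorPow L n) :=
    H23.PullPush.isFinLocFree_of_isInvertible (InvX.isInvertible_tensorPow hL.1 n)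
  have hG : FlatMod.IsFinLocFree G := flf_iso iso.symm (KFlatLib.isFinLocFree_tensor hFl hLn)
  have hclG : φK (KRR.cl X G) = φK (KRR.cl X F) * u ^ n := by
    rw [cl_iso iso hG, cl_pow hK hL.1, hK.map_mul _ _ hFl hLn]
    rfl
  obtain ⟨r, hr⟩ := exists_rank hG
  choose φ U hxU hU using exists_hom_free hr s hs
  obtain ⟨S, hS⟩ := isCompact_univ.elim_finite_subcover (fun x => (U x : Set X)) (fun x => (U x).2)
    fun x _ => Set.mem_iUnion.2 ⟨x, hxU x⟩
  let q : Fin (Fintype.card (S × Fin r)) ≃ S × Fin r := (Fintype.equivFin _).symm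
  let p : FlatMod.freeMod X (Fintype.card (S × Fin r)) ⟶ G :=
    Sigma.desc fun j => Sigma.ι (fun _ : Fin r => Coh.structureModule X) (q j).2 ≫ φ (q j).1.1
  have hfac : ∀ z : S, ∃ g, g ≫ p = φ z.1 := fun z => by
    refine ⟨Sigma.desc fun k => Sigma.ι (fun _ : Fin (Fintype.card (S × Fin r)) => Coh.structureModule X)
      (q.symm (z, k)), Sigma.hom_ext _ _ fun k => ?_⟩
    rw [Sigma.ι_desc_assoc]
    simp [p]
  have hp : Epi p := by
    have h := KFlatLib.isZero_of_stalk (cokernel p) fun y => by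
      obtain ⟨z, hz, hy⟩ := Set.mem_iUnion₂.1 (hS (Set.mem_univ y))
      obtain ⟨g, hg⟩ := hfac ⟨z, hz⟩
      haveI := hU z y hy
      haveI : Epi ((DerSch.stalkFunctor X y).map p) := by
        haveI : Epi ((DerSch.stalkFunctor X y).map g ≫ (DerSch.stalkFunctor X y).map p) := by
          rw [← Functor.map_comp, hg]
          infer_instance
        exact epi_of_epi ((DerSch.stalkFunctor X y).map g) _
      exact (isZero_cokernel_of_epi _).of_iso (PreservesCokernel.iso (DerSch.stalkFunctor X y) p)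
    exact Preadditive.epi_of_isZero_cokernel p h
  have hM : FlatMod.IsFinLocFree (FlatMod.freeMod X (Fintype.card (S × Fin r))) := flf_of_rank (rank_freeMod _)
  have hker : FlatMod.IsFinLocFree (kernel p) := KFlatLib.isFinLocFree_kernel p hM hG
  have hses := cl_ses (KZ.kerSeq_shortExact p) hker hM hG
  have hclM : φK (KRR.cl X (FlatMod.freeMod X _)) = φK (KRR.cl X (kernel p)) + φK (KRR.cl X G) :=
    (congrArg φK hses).trans (map_add φK _ _)
  rw [cl_freeMod hK] at hclM
  have hun : ∀ m, u ^ m * e ∈ P.pos := fun m => by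
    induction m with
    | zero => rw [pow_zero, one_mul]; exact he
    | succ m ih =>
      rw [pow_succ', mul_assoc]
      exact P.mul_mem _ _ (isLine_cl hK hL.1).1 ih
  refine ⟨u ^ n * e + φK (KRR.cl X (kernel p)), Fintype.card (S × Fin r), ?_, ?_⟩
  · obtain ⟨k, hk⟩ := exists_rank hker
    rcases Nat.eq_zero_or_pos k with rfl | hpos
    · have h0 : φK (KRR.cl X (kernel p)) = 0 := by
        rw [← LambdaRing.LambdaOps.lam_one (φK (KRR.cl X (kernel p)))]
        exact lam_cl_rank_zero hK hk 1 le_rfl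
      rw [h0, add_zero]
      exact hun n
    · exact P.add_mem _ _ (hun n) ((hK.mem_pos_iff _).2 ⟨k, kernel p, hpos, hk, rfl⟩)
  · rw [hclM, mul_sub, hclG]
    ring

end Model

end Groth.Agent.KRRLib
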