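import Groth.Agent.TorBridge.LES
import Mathlib.Algebra.Category.ModuleCat.ChangeOfRings
import Mathlib.CategoryTheory.Abelian.Exact
import Mathlib.CategoryTheory.Adjunction.Additive
import Mathlib.RingTheory.Regular.RegularSequence

/-!
# Tor-independence of a module and a ring map
-/

set_option autoImplicit false
set_option backward.isDefEq.respectTransparency false
set_option backward.isDefEq.respectTransparency.types false

universe u

open CategoryTheory CategoryTheory.Limits MonoidalCategory

namespace Groth.Agent.KRRLib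

open Groth.Agent Groth.Agent.TorBridge

variable {R S : Type u} [CommRing R] [CommRing S] (φ : R →+* S)

/-- `S` as an `R`-module. -/
noncomputable abbrev resMod : ModuleCat.{u} R := (ModuleCat.restrictScalars φ).obj (ModuleCat.of S S)

/-- The higher `Tor`s of `N` against `S` vanish. -/
def TI (N : ModuleCat.{u} R) : Prop :=
  ∀ i : ℕ, IsZero (((Tor (ModuleCat.{u} R) (i + 1)).obj N).obj (resMod φ))

theorem TI.of_flat (N : ModuleCat.{u} R) [Module.Flat R N] : TI φ N :=
  fun i => TorBridge.isZero_tor_succ_of_flat N _ i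

theorem TI.of_projective {N : ModuleCat.{u} R} (h : Projective N) : TI φ N := by
  haveI : Module.Projective R N := (IsProjective.iff_projective _).2 h
  exact TI.of_flat φ N

theorem TI.iso {M N : ModuleCat.{u} R} (e : M ≅ N) (h : TI φ M) : TI φ N := fun i =>
  (h i).of_iso (((Tor (ModuleCat.{u} R) (i + 1)).mapIso e).symm.app _)

theorem TI.of_isZero {N : ModuleCat.{u} R} (h : IsZero N) : TI φ N :=
  TI.of_projective φ (IsZero.projective h)

/-- A short exact sequence in the first variable of `Tor` comes from one of complexes. -/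
theorem exists_torSES (T : ShortComplex (ModuleCat.{u} R)) (hT : T.ShortExact) (N : ModuleCat.{u} R) :
    ∃ K : ShortComplex (ChainComplex (ModuleCat.{u} R) ℕ), K.ShortExact ∧
      (∀ j, IsZero (((Tor (ModuleCat.{u} R) j).obj T.X₁).obj N) ↔ IsZero (K.X₁.homology j)) ∧
      (∀ j, IsZero (((Tor (ModuleCat.{u} R) j).obj T.X₂).obj N) ↔ IsZero (K.X₂.homology j)) ∧
      (∀ j, IsZero (((Tor (ModuleCat.{u} R) j).obj T.X₃).obj N) ↔ IsZero (K.X₃.homology j)) := by
  let P : ProjectiveResolution N := ProjectiveResolution.of _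
  let c := ComplexShape.down ℕ
  let C : ModuleCat.{u} R → ChainComplex (ModuleCat.{u} R) ℕ := fun X =>
    ((tenF X).mapHomologicalComplex c).obj P.complex
  let f : C T.X₁ ⟶ C T.X₂ :=
    (NatTrans.mapHomologicalComplex ((tensoringLeft (ModuleCat.{u} R)).map T.f) c).app P.complex
  let g : C T.X₂ ⟶ C T.X₃ :=
    (NatTrans.mapHomologicalComplex ((tensoringLeft (ModuleCat.{u} R)).map T.g) c).app P.complex
  have hfg : f ≫ g = 0 := by
    refine HomologicalComplex.hom_ext _ _ fun j => ModuleCat.hom_ext ?_
    show T.g.hom.rTensor (P.complex.X j) ∘ₗ T.f.hom.rTensor (P.complex.X j) = 0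
    rw [← LinearMap.rTensor_comp, ← ModuleCat.hom_comp, T.zero, ModuleCat.hom_zero, LinearMap.rTensor_zero]
  refine ⟨ShortComplex.mk f g hfg, HomologicalComplex.shortExact_of_degreewise_shortExact _ fun j => ?_,
    fun j => Iso.isZero_iff (P.isoLeftDerivedObj (tenF T.X₁) j),
    fun j => Iso.isZero_iff (P.isoLeftDerivedObj (tenF T.X₂) j),
    fun j => Iso.isZero_iff (P.isoLeftDerivedObj (tenF T.X₃) j)⟩
  haveI : Module.Projective R (P.complex.X j) := (IsProjective.iff_projective _).2 (P.projective j)
  have he : Function.Exact T.f.hom T.g.hom :=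
    (ShortComplex.ShortExact.moduleCat_exact_iff_function_exact _).1 hT.exact
  exact
    { exact := (ShortComplex.ShortExact.moduleCat_exact_iff_function_exact _).2
        (rTensor_exact (P.complex.X j) he ((ModuleCat.epi_iff_surjective _).1 hT.epi_g))
      mono_f := (ModuleCat.mono_iff_injective _).2 (Module.Flat.rTensor_preserves_injective_linearMap
        (M := P.complex.X j) T.f.hom ((ModuleCat.mono_iff_injective _).1 hT.mono_f))
      epi_g := (ModuleCat.epi_iff_surjective _).2
        (LinearMap.rTensor_surjective (P.complex.X j) ((ModuleCat.epi_iff_surjective _).1 hT.epi_g)) }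

theorem TI.middle {T : ShortComplex (ModuleCat.{u} R)} (hT : T.ShortExact) (h₁ : TI φ T.X₁) (h₃ : TI φ T.X₃) :
    TI φ T.X₂ := fun i => by
  obtain ⟨K, hK, k₁, k₂, k₃⟩ := exists_torSES T hT (resMod φ)
  exact (k₂ _).2 ((hK.homology_exact₂ (i + 1)).isZero_of_both_zeros
    (((k₁ _).1 (h₁ i)).eq_of_src _ _) (((k₃ _).1 (h₃ i)).eq_of_tgt _ _))

theorem TI.pi {A : ModuleCat.{u} R} (hA : TI φ A) : ∀ m : ℕ, TI φ (ModuleCat.of R (Fin m → A))
  | 0 => TI.of_isZero φ (ModuleCat.isZero_of_subsingleton _)
  | m + 1 =>
    TI.iso φ (ModuleCat.biprodIsoProd A (ModuleCat.of R (Fin m → A)) ≪≫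
        (Fin.consLinearEquiv R (fun _ : Fin (m + 1) => A)).toModuleIso)
      (TI.middle φ (ShortComplex.Splitting.ofHasBinaryBiproduct A (ModuleCat.of R (Fin m → A))).shortExact hA
        (TI.pi hA m))

/-- Syzygies of Tor-independent modules are so, and base change keeps the sequence short exact. -/
theorem TI.step {T : ShortComplex (ModuleCat.{u} R)} (hT : T.ShortExact) (h₂ : Projective T.X₂) (h₃ : TI φ T.X₃) :
    TI φ T.X₁ ∧ (T.map (ModuleCat.extendScalars φ)).ShortExact := by
  constructor
  · intro i
    obtain ⟨K, hK, k₁, k₂, k₃⟩ := exists_torSES T hT (resMod φ)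
    exact (k₁ _).2 ((hK.homology_exact₁ (i + 2) (i + 1) rfl).isZero_of_both_zeros
      (((k₃ _).1 (h₃ (i + 1))).eq_of_src _ _) (((k₂ _).1 (TI.of_projective φ h₂ i)).eq_of_tgt _ _))
  · haveI := (ModuleCat.extendRestrictScalarsAdj φ).left_adjoint_additive
    haveI : PreservesFiniteColimits (ModuleCat.extendScalars φ) := by
      haveI := (ModuleCat.extendRestrictScalarsAdj φ).leftAdjoint_preservesColimits
      infer_instance
    have hpres : ∀ U : ShortComplex (ModuleCat.{u} R), U.ShortExact →
        (U.map (ModuleCat.extendScalars φ)).Exact ∧ Epi ((ModuleCat.extendScalars φ).map U.g) :=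
      ((Functor.preservesFiniteColimits_tfae (ModuleCat.extendScalars φ)).out 3 0).1 (inferInstance : PreservesFiniteColimits (ModuleCat.extendScalars φ))
    obtain ⟨hex, hepi⟩ := hpres T hT
    haveI : Module.Projective R T.X₂ := (IsProjective.iff_projective _).2 h₂
    have hinj := (TorBridge.isZero_tor_one_iff (resMod φ) T.X₃ T.g.hom
      ((ModuleCat.epi_iff_surjective _).1 hT.epi_g)).1 (h₃ 0)
    have hker : LinearMap.range T.f.hom = LinearMap.ker T.g.hom :=
      (LinearMap.exact_iff.1 ((ShortComplex.ShortExact.moduleCat_exact_iff_function_exact _).1 hT.exact)).symm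
    let e : T.X₁ ≃ₗ[R] LinearMap.ker T.g.hom :=
      (LinearEquiv.ofInjective T.f.hom ((ModuleCat.mono_iff_injective _).1 hT.mono_f)).trans
        (LinearEquiv.ofEq _ _ hker)
    have hf : Function.Injective (T.f.hom.rTensor (resMod φ)) := by
      rw [show T.f.hom = (LinearMap.ker T.g.hom).subtype ∘ₗ e.toLinearMap from rfl, LinearMap.rTensor_comp]
      exact hinj.comp (LinearEquiv.rTensor (resMod φ) e).injective
    have hmono : Mono ((ModuleCat.extendScalars φ).map T.f) := (ModuleCat.mono_iff_injective _).2
      ((LinearMap.lTensor_inj_iff_rTensor_inj (resMod φ) T.f.hom).2 hf)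
    exact { exact := hex, mono_f := hmono, epi_g := hepi }

open RingTheory.Sequence in
/-- A regular sequence whose image stays regular gives a Tor-independent quotient. -/
theorem TI.quot {n : ℕ} (rs : List R) (hlen : rs.length = n) (hR : IsWeaklyRegular R rs)
    (hS : IsWeaklyRegular S (rs.map φ)) : TI φ (ModuleCat.of R (R ⧸ Ideal.ofList rs)) := by
  letI := φ.toAlgebra
  let N : ModuleCat.{u} R := resMod φ
  have hN : IsWeaklyRegular N rs := (isWeaklyRegular_map_algebraMap_iff S S rs).1 hS
  let I : ℕ → Ideal R := fun k => Ideal.ofList (rs.take k)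
  have hI0 : I 0 = ⊥ := Ideal.ofList_nil
  have hIsucc : ∀ k (hk : k < rs.length), I (k + 1) = I k ⊔ Ideal.span {rs[k]} := fun k hk => by
    show Ideal.ofList (rs.take (k + 1)) = _
    rw [List.take_succ_eq_append_getElem hk, Ideal.ofList_append, Ideal.ofList_singleton]
  have hregR : ∀ k (hk : k < rs.length), ∀ a, rs[k] * a ∈ I k → a ∈ I k := fun k hk a ha => by
    have h := (isSMulRegular_quotient_iff_mem_of_smul_mem _ _).1 (((isWeaklyRegular_iff R rs).1 hR) k hk) a
    rw [smul_eq_mul, smul_eq_mul, Ideal.mul_top] at h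
    exact h ha
  have hregN : ∀ k (hk : k < rs.length), ∀ v : N, rs[k] • v ∈ (I k • ⊤ : Submodule R N) →
      v ∈ (I k • ⊤ : Submodule R N) := fun k hk =>
    (isSMulRegular_quotient_iff_mem_of_smul_mem _ _).1 (((isWeaklyRegular_iff N rs).1 hN) k hk)
  have htor1 : ∀ K : Ideal R, IsZero (((Tor (ModuleCat.{u} R) 1).obj (ModuleCat.of R (R ⧸ K))).obj N) ↔
      Function.Injective (K.subtype.rTensor N) := fun K => by
    have h := TorBridge.isZero_tor_one_iff N (R ⧸ K) (Submodule.mkQ K) (Submodule.mkQ_surjective K)
    rw [Submodule.ker_mkQ] at h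
    exact h
  have main : ∀ k, k ≤ rs.length → Function.Injective ((I k).subtype.rTensor N) ∧
      ∀ i, IsZero (((Tor (ModuleCat.{u} R) (i + 1)).obj (ModuleCat.of R (R ⧸ I k))).obj N) := by
    intro k
    induction k with
    | zero =>
      intro _
      haveI : Module.Flat R (R ⧸ I 0) := Module.Flat.of_linearEquiv (Submodule.quotEquivOfEqBot (I 0) hI0)
      exact ⟨(htor1 _).1 (TorBridge.isZero_tor_succ_of_flat _ _ 0), fun i => TorBridge.isZero_tor_succ_of_flat _ _ i⟩
    | succ k ih =>
      intro hk1
      have hk : k < rs.length := hk1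
      obtain ⟨hinj, htor⟩ := ih hk.le
      have h1 : Function.Injective ((I (k + 1)).subtype.rTensor N) := by
        rw [hIsucc k hk]
        exact TorBridge.injective_sup_span N (I k) rs[k] hinj (hregN k hk)
      refine ⟨h1, fun i => ?_⟩
      cases i with
      | zero => exact (htor1 _).2 h1
      | succ i =>
        let μ : (R ⧸ I k) →ₗ[R] R ⧸ I k := rs[k] • LinearMap.id
        have hle : I k ≤ I (k + 1) := (hIsucc k hk).ge.trans' le_sup_left
        let pr : (R ⧸ I k) →ₗ[R] R ⧸ I (k + 1) := Submodule.factor hle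
        have hmk : rs[k] ∈ I (k + 1) := (hIsucc k hk).ge (Submodule.mem_sup_right (Ideal.mem_span_singleton_self _))
        have hex : Function.Exact μ pr := fun v => by
          obtain ⟨a, rfl⟩ := Submodule.Quotient.mk_surjective _ v
          constructor
          · intro h
            have h' : a ∈ I (k + 1) := (Submodule.Quotient.mk_eq_zero _).1 h
            rw [hIsucc k hk] at h'
            obtain ⟨b, hb, c, hc, rfl⟩ := Submodule.mem_sup.1 h'
            obtain ⟨d, rfl⟩ := Ideal.mem_span_singleton'.1 hc
            refine ⟨Submodule.Quotient.mk d, ?_⟩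
            simp only [μ, LinearMap.smul_apply, LinearMap.id_apply]
            rw [← Submodule.Quotient.mk_smul, Submodule.Quotient.eq, smul_eq_mul, mul_comm]
            simpa using neg_mem hb
          · rintro ⟨w, hw⟩
            obtain ⟨d, rfl⟩ := Submodule.Quotient.mk_surjective _ w
            rw [← hw]
            show pr (rs[k] • Submodule.Quotient.mk d) = 0
            rw [← Submodule.Quotient.mk_smul]
            exact (Submodule.Quotient.mk_eq_zero _).2 (Ideal.mul_mem_right _ _ hmk)
        refine TorBridge.isZero_tor_third (ShortComplex.mk (ModuleCat.ofHom μ) (ModuleCat.ofHom pr)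
          (ModuleCat.hom_ext (LinearMap.ext fun v => (hex _).2 ⟨v, rfl⟩))) ?_ _ (i + 1) (htor (i + 1)) (htor i)
        exact
          { exact := (ShortComplex.ShortExact.moduleCat_exact_iff_function_exact _).2 hex
            mono_f := (ModuleCat.mono_iff_injective _).2 ((injective_iff_map_eq_zero μ).2 fun v hv => by
              obtain ⟨a, rfl⟩ := Submodule.Quotient.mk_surjective _ v
              simp only [μ, LinearMap.smul_apply, LinearMap.id_apply] at hv
              rw [← Submodule.Quotient.mk_smul, Submodule.Quotient.mk_eq_zero] at hv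
              exact (Submodule.Quotient.mk_eq_zero _).2 (hregR k hk a hv))
            epi_g := (ModuleCat.epi_iff_surjective _).2 (Submodule.factor_surjective hle) }
  have e : I n = Ideal.ofList rs := by
    show Ideal.ofList (rs.take n) = _
    rw [List.take_of_length_le hlen.le]
  rw [← e]
  exact fun i => (main n hlen.ge).2 i

end Groth.Agent.KRRLib
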