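import Groth.Agent.KRRLib.Push
import Groth.Agent.KRRLib.TorAcyc
import Groth.Agent.KRRLib.ConormalRank
import Groth.Agent.H23.UnitSec
import Groth.Agent.KFlatLib.Scheme.ProjModule
import Groth.Agent.S12131

/-!
# Base change of push-forwards along regular closed immersions
-/

set_option autoImplicit false
set_option backward.isDefEq.respectTransparency false
set_option backward.isDefEq.respectTransparency.types false

universe v u

open CategoryTheory CategoryTheory.Limits AlgebraicGeometry
open scoped TensorProduct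

namespace Groth.Agent.KRRLib

open Groth.Agent Groth.Agent.KZ

variable {X Y P M Z : Scheme.{u}}

theorem flf_structure (X : Scheme.{u}) : FlatMod.IsFinLocFree (Coh.structureModule X) :=
  flf_iso (coproductUniqueIso fun _ : Fin 1 => Coh.structureModule X) (KFlatLib.isFinLocFree_freeMod 1)

theorem flf_isQCoh {F : X.Modules} (h : FlatMod.IsFinLocFree F) : Coh.IsQCoh F := QCoh.isQCoh_of_isFinLocFree h

/-- Pullback keeps short exact a sequence whose stalks stay short exact under base change. -/
theorem pullback_shortExact_of (φ : Y ⟶ M) {S : ShortComplex M.Modules}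
    (h : ∀ y : Y, ((S.map (DerSch.stalkFunctor M (φ y))).map (ModuleCat.extendScalars (φ.stalkMap y).hom)).ShortExact) :
    (S.map (Scheme.Modules.pullback φ)).ShortExact := by
  rw [KFlatLib.shortExact_iff_stalk]
  exact fun y => ShortComplex.shortExact_of_iso (S.mapNatIso (KFlatLib.stalkPullbackIso φ y)).symm (h y)

/-- The pullback of a resolution of a Tor-independent module is a resolution. -/
theorem exists_pull_res (φ : Y ⟶ M) {N : M.Modules} {n : ℕ} {L : ChainComplex M.Modules ℕ}
    {π : L ⟶ (ChainComplex.single₀ M.Modules).obj N} (hL : KRR.IsLFRes N n L π)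
    (hN : ∀ y : Y, TI (φ.stalkMap y).hom (LFRes.stk N (φ y)))
    {G : Y.Modules} (e : (Scheme.Modules.pullback φ).obj N ≅ G) :
    ∃ π' : ((Scheme.Modules.pullback φ).mapHomologicalComplex _).obj L ⟶ (ChainComplex.single₀ Y.Modules).obj G,
      KRR.IsLFRes G n (((Scheme.Modules.pullback φ).mapHomologicalComplex _).obj L) π' := by
  haveI := hL.quasiIso
  haveI := (Scheme.Modules.pullbackPushforwardAdjunction φ).leftAdjoint_preservesColimits
  have hex := exactAt_of_res π
  have hproj : ∀ (k : ℕ) (y : Y), Projective (LFRes.stk (L.X k) (φ y)) :=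
    fun k y => projective_stalk (hL.finLocFree k) (φ y)
  have hQ : ∀ k, ∀ y : Y, TI (φ.stalkMap y).hom (LFRes.stk (L.opcycles k) (φ y)) := by
    intro k
    induction k with
    | zero => exact fun y => (hN y).iso _ ((DerSch.stalkFunctor M (φ y)).mapIso (resIso π).symm)
    | succ k ih =>
      exact fun y => (TI.step _ (LFRes.stk_shortExact (opcycles_shortExact L hex k) (φ y)) (hproj k y) (ih y)).1
  have hSE := fun k => pullback_shortExact_of φ fun y =>
    (TI.step _ (LFRes.stk_shortExact (opcycles_shortExact L hex k) (φ y)) (hproj k y) (hQ k y)).2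
  obtain ⟨π', hπ'⟩ := exists_map_res (Scheme.Modules.pullback φ) L hex hSE
    ((Scheme.Modules.pullback φ).mapIso (resIso π) ≪≫ e)
  exact ⟨π', fun i => KFlatLib.isFinLocFree_pullback φ (hL.finLocFree i),
    fun i hi => (Scheme.Modules.pullback φ).map_isZero (hL.isZero i hi), hπ'⟩

theorem isZero_stk_push (F : P ⟶ M) [IsClosedImmersion F] (G : P.Modules) {m : M} (hm : m ∉ Set.range F.base) :
    IsZero (LFRes.stk ((Scheme.Modules.pushforward F).obj G) m) := by
  haveI : Subsingleton (LFRes.stk ((Scheme.Modules.pushforward F).obj G) m) :=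
    AddCommGrpCat.isZero_iff_subsingleton.1 (KFlatLib.isZero_stalk_push F m hm G)
  exact ModuleCat.isZero_of_subsingleton _

/-- The stalk of the push-forward of the structure module. -/
theorem exists_stk_push_structure (F : P ⟶ M) [IsClosedImmersion F] (p : P) :
    Nonempty ((M.presheaf.stalk (F p) ⧸ RingHom.ker (F.stalkMap p).hom) ≃ₗ[M.presheaf.stalk (F p)]
      LFRes.stk ((Scheme.Modules.pushforward F).obj (Coh.structureModule P)) (F p)) := by
  obtain ⟨e, he⟩ := exists_stalk_equiv F (Coh.structureModule P) p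
  let l := LinearMap.toSpanSingleton (M.presheaf.stalk (F p))
    (LFRes.stk ((Scheme.Modules.pushforward F).obj (Coh.structureModule P)) (F p)) (e.symm (H23.UnitSec.one p))
  have hl : ∀ a, e (l a) = (F.stalkMap p).hom a • H23.UnitSec.one p := fun a => by
    rw [LinearMap.toSpanSingleton_apply, he, AddEquiv.apply_symm_apply]
  have hsurj : Function.Surjective l := fun v => by
    obtain ⟨b, hb⟩ := Submodule.mem_span_singleton.1
      ((H23.UnitSec.span_one p).ge (Submodule.mem_top : e v ∈ ⊤))
    obtain ⟨a, rfl⟩ := F.stalkMap_surjective p b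
    exact ⟨a, e.injective ((hl a).trans hb)⟩
  have hk : LinearMap.ker l = RingHom.ker (F.stalkMap p).hom := by
    ext a
    rw [LinearMap.mem_ker, RingHom.mem_ker]
    constructor
    · intro h
      exact H23.UnitSec.eq_zero_of_smul_one _ (by rw [← hl, h, map_zero])
    · intro h
      apply e.injective
      rw [hl, h, zero_smul, map_zero]
  exact ⟨(Submodule.quotEquivOfEq _ _ hk.symm).trans (l.quotKerEquivOfSurjective hsurj)⟩

/-- Push-forwards of bundles are Tor-independent where the equations stay regular. -/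
theorem ti_push (F : P ⟶ M) [IsClosedImmersion F] {G : P.Modules} (hG : FlatMod.IsFinLocFree G) (p : P)
    {S : Type u} [CommRing S] (σ : M.presheaf.stalk (F p) →+* S) (rs : List (M.presheaf.stalk (F p)))
    (hrs : RingTheory.Sequence.IsWeaklyRegular (M.presheaf.stalk (F p)) rs)
    (hker : RingHom.ker (F.stalkMap p).hom = Ideal.ofList rs)
    (hσ : RingTheory.Sequence.IsWeaklyRegular S (rs.map σ)) :
    TI σ (LFRes.stk ((Scheme.Modules.pushforward F).obj G) (F p)) := by
  haveI := QCoh.free_stalk_of_isFinLocFree hG p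
  haveI := QCoh.finite_stalk_of_isFT (flf_isQCoh hG) (QCoh.isFT_of_isFP (QCoh.isFP_of_isFinLocFree hG)) p
  let b := Module.finBasis (P.presheaf.stalk p) (G.presheaf.stalk p)
  obtain ⟨e, he⟩ := exists_stalk_equiv F G p
  let R : Type u := M.presheaf.stalk (F p)
  let A : Type u := R ⧸ Ideal.ofList rs
  let τ : A ≃+* P.presheaf.stalk p :=
    (Ideal.quotEquivOfEq hker.symm).trans (RingHom.quotientKerEquivOfSurjective (F.stalkMap_surjective p))
  let ε : (Fin (Module.finrank (P.presheaf.stalk p) (G.presheaf.stalk p)) → A) ≃+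
      LFRes.stk ((Scheme.Modules.pushforward F).obj G) (F p) :=
    ((AddEquiv.piCongrRight fun _ => τ.toAddEquiv).trans b.equivFun.symm.toAddEquiv).trans e.symm
  have hε : ∀ (a : R) v, ε (a • v) = a • ε v := fun a v => by
    apply e.injective
    rw [he]
    simp only [ε, AddEquiv.trans_apply, AddEquiv.apply_symm_apply, LinearEquiv.coe_toAddEquiv]
    rw [show (AddEquiv.piCongrRight fun _ => τ.toAddEquiv) (a • v) =
      (F.stalkMap p).hom a • (AddEquiv.piCongrRight fun _ => τ.toAddEquiv) v from ?_]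
    · exact map_smul b.equivFun.symm _ _
    funext i
    show τ (a • v i) = (F.stalkMap p).hom a * τ (v i)
    rw [Algebra.smul_def, map_mul]
    rfl
  exact TI.iso σ (LinearEquiv.toModuleIso { ε with map_smul' := hε }) (TI.pi σ (TI.quot σ rs rfl hrs hσ) _)

section Square

variable (F : P ⟶ M) (φ : Y ⟶ M) (f : X ⟶ Y) (ψ : X ⟶ P) (hsq : IsPullback f ψ φ F)

include hsq in
theorem exists_bc_iso [IsClosedImmersion F] (G : P.Modules) (hG : Coh.IsQCoh G) :
    Nonempty ((Scheme.Modules.pullback φ).obj ((Scheme.Modules.pushforward F).obj G) ≅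
      (Scheme.Modules.pushforward f).obj ((Scheme.Modules.pullback ψ).obj G)) := by
  haveI := hG
  haveI := S12131.result F φ ψ f hsq.flip G
  exact ⟨asIso (((Scheme.Modules.pullbackPushforwardAdjunction φ).homEquiv _ _).symm
      ((Scheme.Modules.pushforward F).map ((Scheme.Modules.pullbackPushforwardAdjunction ψ).unit.app G) ≫
        (Scheme.Modules.pushforwardComp ψ F).hom.app ((Scheme.Modules.pullback ψ).obj G) ≫
        (Scheme.Modules.pushforwardCongr hsq.flip.w).hom.app ((Scheme.Modules.pullback ψ).obj G) ≫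
        (Scheme.Modules.pushforwardComp f φ).inv.app ((Scheme.Modules.pullback ψ).obj G)))⟩

include hsq in
/-- The ideal of a cartesian closed immersion is generated by that of the original one, at stalks. -/
theorem ker_stalkMap_map [IsClosedImmersion F] [IsClosedImmersion f] (x : X) (p : P) (hp : F p = φ (f x))
    (σ : M.presheaf.stalk (F p) →+* Y.presheaf.stalk (f x))
    (hσ : σ = (φ.stalkMap (f x)).hom.comp (M.presheaf.stalkSpecializes (specializes_of_eq hp.symm)).hom) :
    Ideal.map σ (RingHom.ker (F.stalkMap p).hom) = RingHom.ker (f.stalkMap x).hom := by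
  subst hσ
  obtain ⟨e⟩ := exists_bc_iso F φ f ψ hsq _ (flf_isQCoh (flf_structure P))
  let R : Type u := M.presheaf.stalk (φ (f x))
  let S : Type u := Y.presheaf.stalk (f x)
  letI : Algebra R S := (φ.stalkMap (f x)).hom.toAlgebra
  have key : ∀ (m : M) (hm : F p = m), ∃ J : Ideal (M.presheaf.stalk m),
      J = Ideal.map (M.presheaf.stalkSpecializes (specializes_of_eq hm.symm)).hom (RingHom.ker (F.stalkMap p).hom) ∧
      Nonempty ((M.presheaf.stalk m ⧸ J) ≃ₗ[M.presheaf.stalk m]
        LFRes.stk ((Scheme.Modules.pushforward F).obj (Coh.structureModule P)) m) := by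
    intro m hm
    subst hm
    obtain ⟨l⟩ := exists_stk_push_structure F p
    refine ⟨_, rfl, ?_⟩
    rw [show M.presheaf.stalkSpecializes (specializes_of_eq (Eq.refl (F p))) = 𝟙 _ from
      TopCat.Presheaf.stalkSpecializes_refl _ _, CommRingCat.hom_id, Ideal.map_id]
    exact ⟨l⟩
  obtain ⟨J, hJ, ⟨l⟩⟩ := key _ hp
  rw [← Ideal.map_map, ← hJ]
  let N := (Scheme.Modules.pullback ψ).obj (Coh.structureModule P)
  let u : N ≅ Coh.structureModule X :=
    haveI : IsIso (SheafOfModules.pullbackObjUnitToUnit ψ.toRingCatSheafHom) := inferInstance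
    asIso (SheafOfModules.pullbackObjUnitToUnit ψ.toRingCatSheafHom)
  let j : ModuleCat.of S (S ⊗[R] (R ⧸ J)) ≅
      LFRes.stk ((Scheme.Modules.pushforward f).obj (Coh.structureModule X)) (f x) :=
    (ModuleCat.extendScalars (φ.stalkMap (f x)).hom).mapIso
      (l.toModuleIso : ModuleCat.of R (R ⧸ J) ≅ _) ≪≫
    ((KFlatLib.stalkPullbackIso φ (f x)).app _).symm ≪≫
    (DerSch.stalkFunctor Y (f x)).mapIso (e ≪≫ (Scheme.Modules.pushforward f).mapIso u)
  obtain ⟨l'⟩ := exists_stk_push_structure f x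
  let q : (S ⧸ J.map (algebraMap R S)) ≃ₗ[S] (S ⧸ RingHom.ker (f.stalkMap x).hom) :=
    (Algebra.TensorProduct.quotIdealMapEquivTensorQuot S J).toLinearEquiv.trans (j.toLinearEquiv.trans l'.symm)
  have := q.annihilator_eq
  rwa [Ideal.annihilator_quotient, Ideal.annihilator_quotient] at this

include hsq in
/-- Tor-independence for a cartesian square of regular immersions of the same codimension. -/
theorem ti_square [IsLocallyNoetherian M] [IsLocallyNoetherian Y] (hF : Mor2.IsRegularClosedImmersion F)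
    (hf : Mor2.IsRegularClosedImmersion f) (d : ℕ) (hcF : FlatMod.IsFinLocFreeOfRank d (Omega.conormal F))
    (hcf : FlatMod.IsFinLocFreeOfRank d (Omega.conormal f)) {G : P.Modules} (hG : FlatMod.IsFinLocFree G) (y : Y) :
    TI (φ.stalkMap y).hom (LFRes.stk ((Scheme.Modules.pushforward F).obj G) (φ y)) := by
  haveI := hF.1
  haveI := hf.1
  by_cases hy : φ y ∈ Set.range F.base
  swap
  · exact TI.of_isZero _ (isZero_stk_push F G hy)
  obtain ⟨p, hp⟩ := hy
  obtain ⟨x, hx, -⟩ := Scheme.exists_preimage_of_isPullback hsq y p hp.symm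
  subst hx
  obtain ⟨_, _, hzU, hU⟩ := exists_ker_stalkMap F hF p
  obtain ⟨rs, -, hreg, hker⟩ := hU p hzU
  obtain ⟨_, _, hzV, hV⟩ := exists_ker_stalkMap f hf x
  obtain ⟨cs, -, hcreg, hcker⟩ := hV x hzV
  let σ := (φ.stalkMap (f x)).hom.comp (M.presheaf.stalkSpecializes (specializes_of_eq hp.symm)).hom
  have hmap : Ideal.ofList (rs.map σ) = RingHom.ker (f.stalkMap x).hom := by
    rw [← Ideal.map_ofList, ← hker]
    exact ker_stalkMap_map F φ f ψ hsq x p hp σ rfl
  have hσ := weaklyRegular_of_generators (RingHom.ker_ne_top _) cs hcreg.toIsWeaklyRegular hcker.symm (rs.map σ) hmap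
    (by rw [List.length_map, length_eq_rank F d hcF p rs hreg.toIsWeaklyRegular hker,
      length_eq_rank f d hcf x cs hcreg.toIsWeaklyRegular hcker])
  have key : ∀ (m : M) (hm : F p = m) {S : Type u} [CommRing S] (τ : M.presheaf.stalk m →+* S),
      RingTheory.Sequence.IsWeaklyRegular S
        (rs.map (τ.comp (M.presheaf.stalkSpecializes (specializes_of_eq hm.symm)).hom)) →
      TI τ (LFRes.stk ((Scheme.Modules.pushforward F).obj G) m) := by
    intro m hm S _ τ h
    subst hm
    rw [show M.presheaf.stalkSpecializes (specializes_of_eq (Eq.refl (F p))) = 𝟙 _ from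
      TopCat.Presheaf.stalkSpecializes_refl _ _, CommRingCat.hom_id, RingHom.comp_id] at h
    exact ti_push F hG p τ rs hreg.toIsWeaklyRegular hker h
  exact key _ hp _ hσ

include hsq in
theorem pull_pushCl {KX KY KP KM : Type v} [CommRing KX] [CommRing KY] [CommRing KP] [CommRing KM]
    {φX : SGA6.Kvb X →+ KX} {φY : SGA6.Kvb Y →+ KY} {φP : SGA6.Kvb P →+ KP} {φM : SGA6.Kvb M →+ KM}
    (hφP : Function.Bijective φP) [IsNoetherian P] [IsNoetherian M] [IsNoetherian Y]
    (hF : Mor2.IsRegularClosedImmersion F) (hf : Mor2.IsRegularClosedImmersion f) (d : ℕ)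
    (hcF : FlatMod.IsFinLocFreeOfRank d (Omega.conormal F)) (hcf : FlatMod.IsFinLocFreeOfRank d (Omega.conormal f))
    (hM : KRR.HasEnoughLocFree M) {gφ : KM →+ KY} (hgφ : KRR.IsPull φ φM φY gφ) {gψ : KP →+ KX}
    (hgψ : KRR.IsPull ψ φP φX gψ) {gF : KP →+ KM} (hgF : KRR.IsPushCl F φP φM gF) {gf : KX →+ KY}
    (hgf : KRR.IsPushCl f φX φY gf) (p : KP) : gφ (gF p) = gf (gψ p) := by
  haveI := hF.1
  refine DFunLike.congr_fun (hom_ext hφP (g := gφ.comp gF) (g' := gf.comp gψ) fun G hG => ?_) p
  obtain ⟨n, L, π, hL⟩ := (p1_push F hF hM hG).2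
  obtain ⟨e⟩ := exists_bc_iso F φ f ψ hsq G (flf_isQCoh hG)
  obtain ⟨π', hL'⟩ := exists_pull_res φ hL (ti_square F φ f ψ hsq hF hf d hcF hcf hG) e
  rw [AddMonoidHom.comp_apply, AddMonoidHom.comp_apply, hgF G hG n L π hL, hgψ G hG,
    hgf _ (KFlatLib.isFinLocFree_pullback ψ hG) n _ π' hL', map_sum]
  refine Finset.sum_congr rfl fun k _ => ?_
  rw [map_zsmul, hgφ _ (hL.finLocFree k)]
  rfl

end Square

/-- The pullback along a morphism avoiding a regular closed immersion kills the push-forward. -/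
theorem pull_pushCl_eq_zero (F : P ⟶ M) (h : Z ⟶ M) (hd : ∀ z, h z ∉ Set.range F.base)
    {KP KM KZ' : Type v} [CommRing KP] [CommRing KM] [CommRing KZ'] {φP : SGA6.Kvb P →+ KP} {φM : SGA6.Kvb M →+ KM}
    {φZ : SGA6.Kvb Z →+ KZ'} (hφP : Function.Bijective φP) [IsNoetherian P] [IsNoetherian M] [IsNoetherian Z]
    (hF : Mor2.IsRegularClosedImmersion F) (hM : KRR.HasEnoughLocFree M) {gh : KM →+ KZ'}
    (hgh : KRR.IsPull h φM φZ gh) {gF : KP →+ KM} (hgF : KRR.IsPushCl F φP φM gF) (p : KP) : gh (gF p) = 0 := by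
  haveI := hF.1
  refine DFunLike.congr_fun (hom_ext hφP (g := gh.comp gF) (g' := 0) fun G hG => ?_) p
  obtain ⟨n, L, π, hL⟩ := (p1_push F hF hM hG).2
  have hz : IsZero ((Scheme.Modules.pullback h).obj ((Scheme.Modules.pushforward F).obj G)) :=
    KFlatLib.isZero_of_stalk _ fun z => KFlatLib.isZero_stalk_pullback h z (isZero_stk_push F G (hd z))
  obtain ⟨π', hL'⟩ := exists_pull_res h hL (fun z => TI.of_isZero _ (isZero_stk_push F G (hd z))) (Iso.refl _)
  haveI := hL'.quasiIso
  rw [AddMonoidHom.comp_apply, hgF G hG n L π hL, map_sum, AddMonoidHom.zero_apply]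
  refine Eq.trans (Finset.sum_congr rfl fun k _ => ?_) (alt_sum_exact
    (fun N : Z.Modules => FlatMod.IsFinLocFree N) (fun N => φZ (KRR.cl Z N))
    (fun S hS a b => LFRes.pdlt_one_iff.1 (LFRes.PDLT.kernel_of hS (LFRes.pdlt_one_iff.2 a)
      ((LFRes.pdlt_one_iff.2 b).mono (Nat.le_succ _))))
    (fun S hS a b c => by rw [cl_ses hS a b c, map_add])
    (fun N hN => ⟨KFlatLib.isFinLocFree_of_isZero hN, by rw [show KRR.cl Z N = 0 from clSub_isZero _ hN, map_zero]⟩)
    n _ (exactAt_of_res π') (hz.of_iso (resIso π')) hL'.finLocFree hL'.isZero)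
  rw [map_zsmul, hgh _ (hL.finLocFree k)]
  rfl

end Groth.Agent.KRRLib
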