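import Groth.Agent.KZ.LFRes
import Groth.Agent.KFlatLib.Perfect.Tensor
import Groth.Agent.KFlatLib.Perfect.LocFree
import Groth.Agent.KFlatLib.Scheme.Pullback
import Groth.Agent.KFlatLib.Scheme.Exact
import Groth.Agent.H23.PullPush

/-!
# `K₀` of vector bundles: functoriality under pullback, and facts about models
-/

set_option autoImplicit false
set_option backward.isDefEq.respectTransparency false
set_option backward.isDefEq.respectTransparency.types false

universe v w u

open CategoryTheory CategoryTheory.Limits AlgebraicGeometry ZeroObject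

namespace Groth.Agent.KRRLib

open Groth.Agent

variable {X Y : Scheme.{u}}

theorem flf_iso {M N : X.Modules} (e : M ≅ N) (h : FlatMod.IsFinLocFree M) : FlatMod.IsFinLocFree N :=
  H23.PullPush.isFinLocFree_of_iso e h

theorem flf_zero (X : Scheme.{u}) : FlatMod.IsFinLocFree (0 : X.Modules) :=
  KFlatLib.isFinLocFree_of_isZero (isZero_zero _)

theorem cl_iso {M N : X.Modules} (e : M ≅ N) (hM : FlatMod.IsFinLocFree M) :
    KRR.cl X M = KRR.cl X N :=
  KZ.clSub_iso _ e hM (flf_iso e hM) (isZero_zero _) (flf_zero X)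

theorem cl_ses {S : ShortComplex X.Modules} (hS : S.ShortExact) (h₁ : FlatMod.IsFinLocFree S.X₁)
    (h₂ : FlatMod.IsFinLocFree S.X₂) (h₃ : FlatMod.IsFinLocFree S.X₃) :
    KRR.cl X S.X₂ = KRR.cl X S.X₁ + KRR.cl X S.X₃ :=
  KZ.clSub_ses _ hS h₁ h₂ h₃

theorem projective_stalk {M : X.Modules} (hM : FlatMod.IsFinLocFree M) (x : X) :
    Projective ((DerSch.stalkFunctor X x).obj M) := by
  haveI := QCoh.free_stalk_of_isFinLocFree hM x
  haveI : Module.Free (X.presheaf.stalk x) ((DerSch.stalkFunctor X x).obj M) := this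
  haveI : Module.Projective (X.presheaf.stalk x) ((DerSch.stalkFunctor X x).obj M) :=
    Module.Projective.of_free
  exact (IsProjective.iff_projective (R := X.presheaf.stalk x) ((DerSch.stalkFunctor X x).obj M)).1 this

/-- Pullback keeps a short exact sequence with locally free quotient short exact. -/
theorem pullback_shortExact (f : X ⟶ Y) {S : ShortComplex Y.Modules} (hS : S.ShortExact)
    (h₃ : FlatMod.IsFinLocFree S.X₃) : (S.map (Scheme.Modules.pullback f)).ShortExact := by
  rw [KFlatLib.shortExact_iff_stalk]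
  intro x
  have hy := (KFlatLib.shortExact_iff_stalk S).1 hS (f.base x)
  haveI : Projective (S.map (DerSch.stalkFunctor Y (f.base x))).X₃ := projective_stalk h₃ (f.base x)
  have hsplit := (hy.splittingOfProjective).map (ModuleCat.extendScalars (f.stalkMap x).hom)
  exact ShortComplex.shortExact_of_iso (S.mapNatIso (KFlatLib.stalkPullbackIso f x)).symm hsplit.shortExact

theorem exists_pullK (f : X ⟶ Y) :
    ∃ g : SGA6.Kvb Y →+ SGA6.Kvb X, ∀ E : Y.Modules, FlatMod.IsFinLocFree E →
      g (KRR.cl Y E) = KRR.cl X ((Scheme.Modules.pullback f).obj E) :=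
  KZ.exists_liftSub _ (fun E => KRR.cl X ((Scheme.Modules.pullback f).obj E)) fun _ hS h₁ h₂ h₃ =>
    cl_ses (pullback_shortExact f hS h₃) (KFlatLib.isFinLocFree_pullback f h₁)
      (KFlatLib.isFinLocFree_pullback f h₂) (KFlatLib.isFinLocFree_pullback f h₃)

section Model

variable {K : Type v} [AddCommGroup K] {G : Type w} [AddCommGroup G] {φ : SGA6.Kvb X →+ K}

/-- Two additive maps on a model agree if they agree on classes of bundles. -/
theorem hom_ext (hφ : Function.Bijective φ) {g g' : K →+ G}
    (h : ∀ E : X.Modules, FlatMod.IsFinLocFree E → g (φ (KRR.cl X E)) = g' (φ (KRR.cl X E))) : g = g' := by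
  have h' : g.comp φ = g'.comp φ := KZ.K0sub_hom_ext _ h
  ext x
  obtain ⟨y, rfl⟩ := hφ.2 x
  exact DFunLike.congr_fun h' y

/-- An additive map on `Kvb` transports to the model. -/
theorem exists_on_model (hφ : Function.Bijective φ) (g : SGA6.Kvb X →+ G) :
    ∃ g' : K →+ G, ∀ x, g' (φ x) = g x :=
  ⟨g.comp (AddEquiv.ofBijective φ hφ).symm.toAddMonoidHom, fun x => by
    simp only [AddMonoidHom.coe_comp, AddEquiv.coe_toAddMonoidHom, Function.comp_apply]
    exact congrArg g ((AddEquiv.ofBijective φ hφ).symm_apply_apply x)⟩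

end Model

end Groth.Agent.KRRLib
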