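import Groth.Agent.KRRLib.Push
import Groth.Agent.KFlatLib.Scheme.ProjModule
import Groth.Agent.KFlatLib.Scheme.Tensor
import Groth.Agent.KFlatLib.Perfect.Tensor

/-!
# The projection formula for push-forwards along regular closed immersions
-/

set_option autoImplicit false
set_option backward.isDefEq.respectTransparency false
set_option backward.isDefEq.respectTransparency.types false

universe v u

open CategoryTheory CategoryTheory.Limits AlgebraicGeometry ZeroObject

namespace Groth.Agent.KRRLib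

open Groth.Agent Groth.Agent.KZ

variable {X Y : Scheme.{u}}

theorem push_mul_pull_gen {KX KY : Type v} [CommRing KX] [CommRing KY] {φX : SGA6.Kvb X →+ KX}
    {φY : SGA6.Kvb Y →+ KY} (hφX : Function.Bijective φX) (hφY : Function.Bijective φY)
    (hmX : ∀ E F : X.Modules, FlatMod.IsFinLocFree E → FlatMod.IsFinLocFree F →
      φX (KRR.cl X E) * φX (KRR.cl X F) = φX (KRR.cl X (((DCoh.tensorBi (X := X)).obj E).obj F)))
    (hmY : ∀ E F : Y.Modules, FlatMod.IsFinLocFree E → FlatMod.IsFinLocFree F →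
      φY (KRR.cl Y E) * φY (KRR.cl Y F) = φY (KRR.cl Y (((DCoh.tensorBi (X := Y)).obj E).obj F)))
    (f : X ⟶ Y) (hf : Mor2.IsRegularClosedImmersion f) [IsNoetherian X] [IsNoetherian Y]
    (hY : KRR.HasEnoughLocFree Y) {g : KY →+ KX} (hg : KRR.IsPull f φY φX g)
    {h : KX →+ KY} (hh : KRR.IsPushCl f φX φY h) (x : KX) (y : KY) : h (x * g y) = h x * y := by
  haveI := hf.1
  obtain ⟨ι, hι⟩ := exists_iota hY
  have main : ∀ (F : X.Modules) (E : Y.Modules), FlatMod.IsFinLocFree F → FlatMod.IsFinLocFree E →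
      h (φX (KRR.cl X F) * g (φY (KRR.cl Y E))) = h (φX (KRR.cl X F)) * φY (KRR.cl Y E) := by
    intro F E hF hE
    have hEp := KFlatLib.isFinLocFree_pullback f hE
    have hFE := KFlatLib.isFinLocFree_tensor hF hEp
    rw [hg E hE, hmX _ _ hF hEp, pushCl_apply f hf hY ι hι hh hFE]
    obtain ⟨n, L, π, hL⟩ := (p1_push f hf hY hF).2
    haveI := hL.quasiIso
    let T := (DCoh.tensorBi (X := Y)).flip.obj E
    have hT : KFlatLib.FlatObj DCoh.tensorBi E := KFlatLib.flatObj_of_isFlat (KFlatLib.isFlat_of_isFinLocFree hE)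
    have key := alt_sum (fun M : Y.Modules => LFRes.P₁ Y (T.obj M))
      (fun M => φY (ι.symm (KZero.clSub (LFRes.P₁ Y) (T.obj M))))
      (fun S hS a b => p1_cokernel hY (hT S hS) a b)
      (fun S hS a b c => by
        rw [← map_add, ← map_add]
        exact congrArg (fun t => φY (ι.symm t)) (KZ.clSub_ses _ (hT S hS) a b c))
      (fun M hM => ⟨p1_isZero hY (T.map_isZero hM), by
        rw [KZ.clSub_isZero _ (T.map_isZero hM), map_zero, map_zero]⟩)
      (fun e a => ⟨p1_iso hY (T.mapIso e) a, by rw [cl1_iso hY (T.mapIso e) a]⟩)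
      n L π (fun i => (LFRes.resSetup hY).le _ (KFlatLib.isFinLocFree_tensor (hL.finLocFree i) hE)) hL.isZero
    haveI := KFlatLib.isIso_projMod_of_isClosedImmersion f F E
    rw [← cl1_iso hY (asIso (KFlatLib.projMod f F E)) key.1, hh F hF n L π hL, Finset.sum_mul]
    refine key.2.trans (Finset.sum_congr rfl fun k _ => ?_)
    rw [smul_mul_assoc, hmY _ _ (hL.finLocFree k) hE]
    show (-1 : ℤ) ^ k • φY (ι.symm (KZero.clSub (LFRes.P₁ Y)
      (((DCoh.tensorBi (X := Y)).obj (L.X k)).obj E))) = _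
    rw [← hι _ (KFlatLib.isFinLocFree_tensor (hL.finLocFree k) hE)]
    exact congrArg (fun t => (-1 : ℤ) ^ k • φY t) (ι.symm_apply_apply _)
  have h1 : ∀ (E : Y.Modules), FlatMod.IsFinLocFree E → ∀ x, h (x * g (φY (KRR.cl Y E))) = h x * φY (KRR.cl Y E) :=
    fun E hE => DFunLike.congr_fun (hom_ext hφX (g := h.comp (AddMonoidHom.mulRight (g (φY (KRR.cl Y E)))))
      (g' := (AddMonoidHom.mulRight (φY (KRR.cl Y E))).comp h) fun F hF => main F E hF hE)
  exact DFunLike.congr_fun (hom_ext hφY (g := h.comp ((AddMonoidHom.mulLeft x).comp g))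
    (g' := AddMonoidHom.mulLeft (h x)) fun E hE => h1 E hE x) y

end Groth.Agent.KRRLib
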