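import Groth.Agent.KRRLib.BaseChange
import Groth.Agent.KRRLib.PushMul
import Groth.Agent.KZ.ClosedDev

/-!
# Two closed subschemes meeting regularly
-/

set_option autoImplicit false
set_option backward.isDefEq.respectTransparency false
set_option backward.isDefEq.respectTransparency.types false

universe v u

open CategoryTheory CategoryTheory.Limits AlgebraicGeometry

namespace Groth.Agent.KRRLib

open Groth.Agent Groth.Agent.KZ

variable {X Y Z W : Scheme.{u}}

theorem isNoetherian_closed (i : Z ⟶ X) [IsClosedImmersion i] [IsNoetherian X] : IsNoetherian Z := by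
  haveI : IsLocallyNoetherian Z := LocallyOfFiniteType.isLocallyNoetherian i
  haveI : CompactSpace Z := QuasiCompact.compactSpace_of_compactSpace i
  exact {}

theorem enough_closed [IsNoetherian X] (hX : KRR.HasEnoughLocFree X) (i : Z ⟶ X) [IsClosedImmersion i] :
    KRR.HasEnoughLocFree Z := by
  intro F hF
  obtain ⟨E, p, hE, hp⟩ := hX _ (QCoh.isCoh_push i hF)
  haveI := ClosedDev.isIso_counit i (QCoh.isCoh_push i hF).1
  haveI := (Scheme.Modules.pullbackPushforwardAdjunction i).leftAdjoint_preservesColimits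
  refine ⟨(Scheme.Modules.pullback i).obj E, (Scheme.Modules.pullback i).map p ≫
    (Scheme.Modules.pullbackPushforwardAdjunction i).counit.app F,
    KFlatLib.isFinLocFree_pullback i hE, ?_⟩
  haveI : Epi ((Scheme.Modules.pullback i).map p) := inferInstance
  exact epi_comp _ _

theorem pull_one {KX KY : Type v} [CommRing KX] [CommRing KY] {φX : SGA6.Kvb X →+ KX} {φY : SGA6.Kvb Y →+ KY}
    (f : X ⟶ Y) (h1X : φX (KRR.cl X (Coh.structureModule X)) = 1)
    (h1Y : φY (KRR.cl Y (Coh.structureModule Y)) = 1)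
    {g : KY →+ KX} (hg : KRR.IsPull f φY φX g) : g 1 = 1 := by
  haveI : IsIso (SheafOfModules.pullbackObjUnitToUnit f.toRingCatSheafHom) := inferInstance
  let u : (Scheme.Modules.pullback f).obj (Coh.structureModule Y) ≅ Coh.structureModule X :=
    asIso (SheafOfModules.pullbackObjUnitToUnit f.toRingCatSheafHom)
  conv_lhs => rw [← h1Y, hg _ (flf_structure Y), cl_iso u (KFlatLib.isFinLocFree_pullback f (flf_structure Y)), h1X]

theorem pushCl_one_mul {KX KY KZ' KW : Type v} [CommRing KX] [CommRing KY] [CommRing KZ'] [CommRing KW]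
    [LambdaRing.LambdaOps KX] [LambdaRing.LambdaOps KY] [LambdaRing.LambdaOps KZ'] [LambdaRing.LambdaOps KW]
    {PX : LambdaRing.PosStructure KX} {PY : LambdaRing.PosStructure KY} {PZ : LambdaRing.PosStructure KZ'}
    {PW : LambdaRing.PosStructure KW}
    {φX : SGA6.Kvb X →+ KX} {φY : SGA6.Kvb Y →+ KY} {φZ : SGA6.Kvb Z →+ KZ'} {φW : SGA6.Kvb W →+ KW}
    (hKX : KRR.IsModel X KX PX φX) (hKY : KRR.IsModel Y KY PY φY) (hKZ : KRR.IsModel Z KZ' PZ φZ)
    (hKW : KRR.IsModel W KW PW φW) [IsNoetherian X] (hX : KRR.HasEnoughLocFree X)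
    (i : Y ⟶ X) (hi : Mor2.IsRegularClosedImmersion i) (j : Z ⟶ X) (hj : Mor2.IsRegularClosedImmersion j)
    (h : W ⟶ Y) (g : W ⟶ Z) (hsq : IsPullback g h j i) (hg : Mor2.IsRegularClosedImmersion g)
    (d : ℕ) (hci : FlatMod.IsFinLocFreeOfRank d (Omega.conormal i)) (hcg : FlatMod.IsFinLocFreeOfRank d (Omega.conormal g))
    {a : KY →+ KX} (ha : KRR.IsPushCl i φY φX a) {b : KZ' →+ KX} (hb : KRR.IsPushCl j φZ φX b)
    {c : KW →+ KX} (hc : KRR.IsPushCl (g ≫ j) φW φX c) : a 1 * b 1 = c 1 := by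
  haveI := hi.1
  haveI := hj.1
  haveI := hg.1
  haveI := isNoetherian_closed i
  haveI := isNoetherian_closed j
  haveI := isNoetherian_closed g
  have hZ := enough_closed hX j
  obtain ⟨p₀, hp₀⟩ := exists_pullK j
  obtain ⟨gj, hgj⟩ := exists_on_model hKX.bijective (φZ.comp p₀)
  have hgj' : KRR.IsPull j φX φZ gj := fun E hE => by rw [hgj, AddMonoidHom.comp_apply, hp₀ E hE]
  obtain ⟨q₀, hq₀⟩ := exists_pullK h
  obtain ⟨gh, hgh⟩ := exists_on_model hKY.bijective (φW.comp q₀)
  have hgh' : KRR.IsPull h φY φW gh := fun E hE => by rw [hgh, AddMonoidHom.comp_apply, hq₀ E hE]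
  obtain ⟨gg, hgg, -⟩ := existsUnique_pushCl φZ hKW.bijective g hg hZ
  have h1 : gj (a 1) = gg 1 := by
    rw [pull_pushCl i j g h hsq hKY.bijective hi hg d hci hcg hX hgj' hgh' ha hgg 1,
      pull_one h hKW.map_one hKY.map_one hgh']
  have h2 := push_mul_pull_gen hKZ.bijective hKX.bijective hKZ.map_mul hKX.map_mul j hj hX hgj' hb 1 (a 1)
  rw [one_mul, h1] at h2
  rw [pushCl_comp hKW.bijective g j hg hj hZ hX hgg hb hc, AddMonoidHom.comp_apply, h2, mul_comm]

end Groth.Agent.KRRLib
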