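import Mathlib.RingTheory.IntegralClosure.IsIntegralClosure.Basic
import Mathlib.RingTheory.Nilpotent.Lemmas
import Mathlib.RingTheory.TensorProduct.Maps
import Mathlib.RingTheory.Adjoin.FG
import Mathlib.RingTheory.Finiteness.Basic
import Mathlib.Algebra.Algebra.Subalgebra.Basic
import Mathlib.RingTheory.Ideal.Operations
import Mathlib.RingTheory.Noetherian.Basic
import Mathlib.RingTheory.Noetherian.Nilpotent

/-!
# Augmented rings with nil augmentation ideal
-/

set_option autoImplicit false

universe v w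

open scoped TensorProduct

namespace Groth.Agent.KRRLib

variable {K : Type v} [CommRing K] (ε : K →+* ℤ) (hnil : ∀ x, ε x = 0 → IsNilpotent x)

include hnil

theorem isUnit_tensor_iff (A : Type w) [CommRing A] (y : A ⊗[ℤ] K) :
    IsUnit y ↔ IsUnit (Algebra.TensorProduct.map (AlgHom.id ℤ A) ε.toIntAlgHom y) := by
  let Φ := Algebra.TensorProduct.map (AlgHom.id ℤ A) ε.toIntAlgHom
  let e := Algebra.TensorProduct.rid ℤ ℤ A
  have hcore : ∀ z : A ⊗[ℤ] K, IsNilpotent (z - (e (Φ z)) ⊗ₜ[ℤ] (1 : K)) := fun z => by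
    induction z with
    | zero =>
      simp only [map_zero, TensorProduct.zero_tmul, sub_zero]
      exact IsNilpotent.zero
    | tmul a x =>
      have h : e (Φ (a ⊗ₜ[ℤ] x)) ⊗ₜ[ℤ] (1 : K) = a ⊗ₜ[ℤ] ((ε x : K)) := by
        show (ε x • a) ⊗ₜ[ℤ] (1 : K) = _
        rw [TensorProduct.smul_tmul, zsmul_one]
      rw [h, ← TensorProduct.tmul_sub]
      obtain ⟨n, hn⟩ := hnil (x - (ε x : K)) (by simp)
      exact ⟨n, by rw [Algebra.TensorProduct.tmul_pow, hn, TensorProduct.tmul_zero]⟩
    | add a b ha hb =>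
      have := (Commute.all _ _).isNilpotent_add ha hb
      have e2 : e (Φ (a + b)) = e (Φ a) + e (Φ b) := (congrArg e (map_add Φ a b)).trans (map_add e _ _)
      rw [e2, TensorProduct.add_tmul, add_sub_add_comm]
      exact this
  refine ⟨fun h => h.map Φ, fun h => ?_⟩
  have hu : IsUnit ((e (Φ y)) ⊗ₜ[ℤ] (1 : K)) :=
    (h.map e).map (Algebra.TensorProduct.includeLeft : A →ₐ[ℤ] A ⊗[ℤ] K)
  have := (hcore y).isUnit_add_left_of_commute hu (Commute.all _ _)
  rwa [add_sub_cancel] at this

/-- A subring generated by a finite set is a finitely generated group with nilpotent augmentation ideal. -/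
theorem closure_fg_and_nilpotent (s : Set K) (hs : s.Finite) :
    (∃ n : ℕ, ∀ f : Fin n → K, (∀ t, f t ∈ Subring.closure s ∧ ε (f t) = 0) → ∏ t, f t = 0) ∧
      (Subring.closure s).toAddSubgroup.FG := by
  have hint : ∀ x ∈ s, IsIntegral ℤ x := fun x _ => by
    obtain ⟨n, hn⟩ := hnil (x - (ε x : K)) (by simp)
    refine ⟨(Polynomial.X - Polynomial.C (ε x)) ^ n, (Polynomial.monic_X_sub_C _).pow n, ?_⟩
    rw [Polynomial.eval₂_pow, Polynomial.eval₂_sub, Polynomial.eval₂_X, Polynomial.eval₂_C]
    exact hn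
  have hfin : (Subalgebra.toSubmodule (Algebra.adjoin ℤ s)).FG := fg_adjoin_of_finite hs hint
  have hR : (Algebra.adjoin ℤ s).toSubring = Subring.closure s := by
    rw [Algebra.adjoin_int]
    rfl
  refine ⟨?_, ?_⟩
  · let R := Algebra.adjoin ℤ s
    haveI : Module.Finite ℤ R := Module.Finite.iff_fg.2 hfin
    haveI : IsNoetherianRing R := IsNoetherianRing.of_finite ℤ R
    let I : Ideal R := RingHom.ker (ε.comp R.val.toRingHom)
    obtain ⟨n, hn⟩ : IsNilpotent I := by
      rw [Ideal.FG.isNilpotent_iff_le_nilradical (IsNoetherian.noetherian I)]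
      intro x hx
      rw [mem_nilradical]
      obtain ⟨k, hk⟩ := hnil (x : K) hx
      exact ⟨k, Subtype.ext (by simpa using hk)⟩
    refine ⟨n, fun f hf => ?_⟩
    let g : Fin n → R := fun t => ⟨f t, by
      have := (hf t).1
      rw [← hR] at this
      exact this⟩
    have hg : ∏ t, g t ∈ I ^ n := by
      have := Ideal.prod_mem_prod (s := Finset.univ) (I := fun _ : Fin n => I) (x := g) fun t _ => (hf t).2
      rwa [Finset.prod_const, Finset.card_univ, Fintype.card_fin] at this
    rw [hn] at hg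
    have := congrArg Subtype.val (show ∏ t, g t = 0 from hg)
    exact (map_prod R.val.toRingHom g Finset.univ).symm.trans this
  · rw [← hR]
    exact (Submodule.fg_iff_addSubgroup_fg (Subalgebra.toSubmodule (Algebra.adjoin ℤ s))).1 hfin

end Groth.Agent.KRRLib
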