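import Groth.Agent.KZ.LFRes
import Groth.Agent.KFlatLib.Scheme.ClosedPush
import Groth.Agent.QCoh.Stalk
import Groth.Agent.QCoh.Support
import Groth.Prelude.Def_Mor2
import Mathlib.RingTheory.Regular.ProjectiveDimension
import Mathlib.RingTheory.Regular.Flat
import Mathlib.Algebra.Category.ModuleCat.Biproducts
import Mathlib.LinearAlgebra.Pi

/-!
# Projective dimension of push-forwards of bundles along regular closed immersions
-/

set_option autoImplicit false
set_option backward.isDefEq.respectTransparency false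
set_option backward.isDefEq.respectTransparency.types false

universe u

open CategoryTheory CategoryTheory.Limits AlgebraicGeometry TopologicalSpace

namespace Groth.Agent.KRRLib

open Groth.Agent

theorem pd_pi {R : Type u} [CommRing R] (A : ModuleCat.{u} R) (n : ℕ) (hA : HasProjectiveDimensionLT A (n + 1)) :
    ∀ m : ℕ, HasProjectiveDimensionLT (ModuleCat.of R (Fin m → A)) (n + 1)
  | 0 => by
    haveI := (hasProjectiveDimensionLT_zero_iff_isZero _).2
      (ModuleCat.isZero_of_subsingleton (ModuleCat.of R (Fin 0 → A)))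
    exact hasProjectiveDimensionLT_of_ge _ 0 (n + 1) (Nat.zero_le _)
  | m + 1 => by
    haveI := pd_pi A n hA m
    exact hasProjectiveDimensionLT_of_iso
      (ModuleCat.biprodIsoProd A (ModuleCat.of R (Fin m → A)) ≪≫
        (Fin.consLinearEquiv R (fun _ : Fin (m + 1) => A)).toModuleIso) (n + 1)

section Stalk

variable {X Y : Scheme.{u}} (f : X ⟶ Y) [IsClosedImmersion f]

/-- The stalk of a pushforward, semilinearly. -/
theorem exists_stalk_equiv (M : X.Modules) (x : X) :
    ∃ e : KZ.LFRes.stk ((Scheme.Modules.pushforward f).obj M) (f x) ≃+ M.presheaf.stalk x,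
      ∀ a m, e (a • m) = (f.stalkMap x).hom a • e m := by
  haveI := KFlatLib.isIso_stalkPushforward_closed f M x
  let P := (Scheme.Modules.pushforward f).obj M
  let e : P.presheaf.stalk (f x) ≃+ M.presheaf.stalk x :=
    (asIso (TopCat.Presheaf.stalkPushforward Ab.{u} f.base M.presheaf x)).addCommGroupIsoToAddEquiv
  have he : ∀ (U : Y.Opens) (hU : f x ∈ U) (v : Γ(M, f ⁻¹ᵁ U)),
      e (P.presheaf.germ U (f x) hU v) = M.presheaf.germ (f ⁻¹ᵁ U) x hU v := fun U hU v =>
    congrArg (fun φ => φ v) (TopCat.Presheaf.stalkPushforward_germ Ab.{u} f.base M.presheaf U x hU)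
  have key : ∀ (a : Y.presheaf.stalk (f x)) (m : P.presheaf.stalk (f x)),
      e (a • m) = (f.stalkMap x).hom a • e m := by
    intro a m
    obtain ⟨U, hU, b, rfl⟩ := Y.presheaf.exists_germ_eq (x := f x) a
    obtain ⟨V, hV, v, rfl⟩ := P.presheaf.germ_exist m
    have hW : f x ∈ U ⊓ V := ⟨hU, hV⟩
    rw [← Y.presheaf.germ_res_apply (homOfLE inf_le_left : U ⊓ V ⟶ U) (f x) hW b,
      ← P.presheaf.germ_res_apply (homOfLE inf_le_right : U ⊓ V ⟶ V) (f x) hW v]
    generalize Y.presheaf.map (homOfLE inf_le_left : U ⊓ V ⟶ U).op b = b'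
    generalize P.presheaf.map (homOfLE inf_le_right : U ⊓ V ⟶ V).op v = v'
    rw [← QCoh.germ_smul' P hW, he, he]
    refine (QCoh.germ_smul' M (show x ∈ f ⁻¹ᵁ (U ⊓ V) from hW) (f.app _ b') v').trans ?_
    exact congrArg (fun t => t • M.presheaf.germ (f ⁻¹ᵁ (U ⊓ V)) x hW v')
      (Scheme.Hom.germ_stalkMap_apply f (U ⊓ V) x hW b').symm
  exact ⟨e, key⟩

/-- The kernel of the stalk map of a regular closed immersion near a point. -/
theorem exists_ker_stalkMap (hf : Mor2.IsRegularClosedImmersion f) (z : X) :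
    ∃ (U : Y.Opens) (r : ℕ), f z ∈ U ∧ ∀ x : X, f x ∈ U → ∃ rs : List (Y.presheaf.stalk (f x)),
      rs.length = r ∧ RingTheory.Sequence.IsRegular (Y.presheaf.stalk (f x)) rs ∧
        RingHom.ker (f.stalkMap x).hom = Ideal.ofList rs := by
  obtain ⟨U, hU, hzU, rs, hrs, hker⟩ := hf.2 z
  rw [Scheme.Hom.ker_apply] at hker
  refine ⟨U, rs.length, hzU, fun x hxU => ?_⟩
  have hV : IsAffineOpen (f ⁻¹ᵁ U) := hU.preimage f
  let φ : Γ(Y, U) →+* Γ(X, f ⁻¹ᵁ U) := (f.app U).hom
  letI : Algebra Γ(Y, U) (Y.presheaf.stalk (f x)) := (Y.presheaf.germ U (f x) hxU).hom.toAlgebra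
  letI : Algebra Γ(X, f ⁻¹ᵁ U) (X.presheaf.stalk x) := (X.presheaf.germ (f ⁻¹ᵁ U) x hxU).hom.toAlgebra
  haveI hY : IsLocalization.AtPrime (Y.presheaf.stalk (f x)) (hU.primeIdealOf ⟨f x, hxU⟩).asIdeal :=
    hU.isLocalization_stalk ⟨f x, hxU⟩
  haveI hX : IsLocalization.AtPrime (X.presheaf.stalk x) (hV.primeIdealOf ⟨x, hxU⟩).asIdeal :=
    hV.isLocalization_stalk ⟨x, hxU⟩
  have hs : Function.Surjective φ := f.app_surjective U hU
  have hcomap : (hU.primeIdealOf ⟨f x, hxU⟩).asIdeal = (hV.primeIdealOf ⟨x, hxU⟩).asIdeal.comap φ := by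
    have h := IsAffineOpen.comap_primeIdealOf_appLE (f := f) U hU (f ⁻¹ᵁ U) hV le_rfl hxU
    rw [← Scheme.Hom.app_eq_appLE] at h
    exact (congrArg PrimeSpectrum.asIdeal h).symm
  have hM : Submonoid.map φ (hU.primeIdealOf ⟨f x, hxU⟩).asIdeal.primeCompl =
      (hV.primeIdealOf ⟨x, hxU⟩).asIdeal.primeCompl := by
    ext b
    constructor
    · rintro ⟨a, ha, rfl⟩ hb
      exact ha (by rw [hcomap]; exact hb)
    · intro hb
      obtain ⟨a, rfl⟩ := hs b
      exact ⟨a, fun h => hb (by rw [hcomap] at h; exact h), rfl⟩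
  let σ : Y.presheaf.stalk (f x) →+* X.presheaf.stalk x := (f.stalkMap x).hom
  have hσ : σ = IsLocalization.map (X.presheaf.stalk x) φ
      (show (hU.primeIdealOf ⟨f x, hxU⟩).asIdeal.primeCompl ≤
        (hV.primeIdealOf ⟨x, hxU⟩).asIdeal.primeCompl.comap φ from Submonoid.map_le_iff_le_comap.1 hM.le) := by
    refine IsLocalization.ringHom_ext (hU.primeIdealOf ⟨f x, hxU⟩).asIdeal.primeCompl (RingHom.ext fun a => ?_)
    rw [RingHom.comp_apply, RingHom.comp_apply, IsLocalization.map_eq]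
    exact Scheme.Hom.germ_stalkMap_apply f U x hxU a
  have hk : RingHom.ker σ = Ideal.ofList (rs.map (algebraMap Γ(Y, U) (Y.presheaf.stalk (f x)))) := by
    rw [hσ, ← Ideal.map_ofList, ← hker]
    exact IsLocalization.ker_map (X.presheaf.stalk x) φ hM
  haveI : Module.Flat Γ(Y, U) (Y.presheaf.stalk (f x)) :=
    IsLocalization.flat _ (hU.primeIdealOf ⟨f x, hxU⟩).asIdeal.primeCompl
  refine ⟨_, List.length_map _, ⟨RingTheory.Sequence.IsWeaklyRegular.of_flat hrs.toIsWeaklyRegular, ?_⟩, hk⟩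
  rw [← hk, smul_eq_mul, Ideal.mul_top]
  exact fun h => RingHom.ker_ne_top σ h.symm

/-- Push-forwards of bundles along regular closed immersions have bounded projective dimension. -/
theorem exists_pdlt_push [IsNoetherian X] [IsNoetherian Y] (hf : Mor2.IsRegularClosedImmersion f) {F : X.Modules}
    (hF : FlatMod.IsFinLocFree F) :
    ∃ n, KZ.LFRes.PDLT (n + 1) ((Scheme.Modules.pushforward f).obj F) := by
  classical
  haveI := hf.1
  choose U r hzU hU using exists_ker_stalkMap f hf
  obtain ⟨s, hs⟩ := isCompact_univ.elim_finite_subcover (fun z => ((f ⁻¹ᵁ U z : X.Opens) : Set X))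
    (fun z => (f ⁻¹ᵁ U z).2) fun x _ => Set.mem_iUnion.2 ⟨x, hzU x⟩
  refine ⟨s.sup r, QCoh.isCoh_pushforward_finite f (KZ.LFRes.flf_isCoh hF), fun y => ?_⟩
  by_cases hy : y ∈ Set.range f.base
  swap
  · haveI : HasProjectiveDimensionLT (KZ.LFRes.stk ((Scheme.Modules.pushforward f).obj F) y) 0 := by
      rw [hasProjectiveDimensionLT_zero_iff_isZero]
      haveI : Subsingleton (KZ.LFRes.stk ((Scheme.Modules.pushforward f).obj F) y) :=
        AddCommGrpCat.isZero_iff_subsingleton.1 (KFlatLib.isZero_stalk_push f y hy F)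
      exact ModuleCat.isZero_of_subsingleton _
    exact hasProjectiveDimensionLT_of_ge _ 0 _ (Nat.zero_le _)
  obtain ⟨x, rfl⟩ := hy
  obtain ⟨z, hz, hxz⟩ := Set.mem_iUnion₂.1 (hs (Set.mem_univ x))
  obtain ⟨rs, hlen, hreg, hker⟩ := hU z x hxz
  haveI := QCoh.free_stalk_of_isFinLocFree hF x
  haveI := QCoh.finite_stalk_of_isFT (QCoh.isQCoh_of_isFinLocFree hF)
    (QCoh.isFT_of_isFP (QCoh.isFP_of_isFinLocFree hF)) x
  let b := Module.finBasis (X.presheaf.stalk x) (F.presheaf.stalk x)
  obtain ⟨e, he⟩ := exists_stalk_equiv f F x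
  let R : Type u := Y.presheaf.stalk (f x)
  let A : Type u := R ⧸ Ideal.ofList rs
  haveI : IsLocallyNoetherian Y := inferInstance
  have hA : HasProjectiveDimensionLT (ModuleCat.of R A) (s.sup r + 1) := by
    have h : projectiveDimension (ModuleCat.of R (Shrink.{u} A)) ≤ (r z : ℕ) := by
      rw [ModuleCat.projectiveDimension_quotient_eq_length rs hreg, hlen]
    rw [projectiveDimension_le_iff] at h
    haveI : HasProjectiveDimensionLT (ModuleCat.of R A) (r z + 1) :=
      hasProjectiveDimensionLT_of_iso (Shrink.linearEquiv R A).toModuleIso _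
    exact hasProjectiveDimensionLT_of_ge _ (r z + 1) _ (Nat.succ_le_succ (Finset.le_sup hz))
  haveI := pd_pi (ModuleCat.of R A) _ hA (Module.finrank (X.presheaf.stalk x) (F.presheaf.stalk x))
  let σ : A ≃+* X.presheaf.stalk x :=
    (Ideal.quotEquivOfEq hker.symm).trans (RingHom.quotientKerEquivOfSurjective (f.stalkMap_surjective x))
  let ε : (Fin (Module.finrank (X.presheaf.stalk x) (F.presheaf.stalk x)) → A) ≃+
      KZ.LFRes.stk ((Scheme.Modules.pushforward f).obj F) (f x) :=
    ((AddEquiv.piCongrRight fun _ => σ.toAddEquiv).trans b.equivFun.symm.toAddEquiv).trans e.symm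
  have hε : ∀ (a : R) v, ε (a • v) = a • ε v := fun a v => by
    apply e.injective
    rw [he]
    simp only [ε, AddEquiv.trans_apply, AddEquiv.apply_symm_apply, LinearEquiv.coe_toAddEquiv]
    rw [show (AddEquiv.piCongrRight fun _ => σ.toAddEquiv) (a • v) =
      (f.stalkMap x).hom a • (AddEquiv.piCongrRight fun _ => σ.toAddEquiv) v from ?_]
    · exact map_smul b.equivFun.symm _ _
    funext i
    show σ (a • v i) = (f.stalkMap x).hom a * σ (v i)
    rw [Algebra.smul_def, map_mul]
    rfl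
  exact hasProjectiveDimensionLT_of_iso (LinearEquiv.toModuleIso { ε with map_smul' := hε }) _

end Stalk

end Groth.Agent.KRRLib
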