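import Mathlib.Algebra.Homology.ShortComplex.HomologicalComplex
import Mathlib.Algebra.Homology.QuasiIso
import Mathlib.Algebra.Homology.HomologicalComplexAbelian
import Mathlib.Algebra.Homology.Single
import Mathlib.Algebra.Homology.SingleHomology
import Mathlib.Algebra.BigOperators.Fin
import Mathlib.Tactic.Abel
import Mathlib.CategoryTheory.Abelian.Basic

/-!
# Alternating sums over finite resolutions, for functions additive on short exact sequences
-/

set_option autoImplicit false

set_option backward.isDefEq.respectTransparency false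
set_option backward.isDefEq.respectTransparency.types false

universe v u w

open CategoryTheory CategoryTheory.Limits

namespace Groth.Agent.KRRLib

variable {C : Type u} [Category.{v} C] [Abelian C]

theorem opcycles_shortExact (L : ChainComplex C ℕ) (hex : ∀ k, L.ExactAt (k + 1)) (k : ℕ) :
    (ShortComplex.mk (L.fromOpcycles (k + 1) k) (L.pOpcycles k)
      (by rw [← cancel_epi (L.pOpcycles (k + 1))]; simp)).ShortExact := by
  haveI : Mono (L.fromOpcycles (k + 1) k) := by
    have h := (L.exactAt_iff' (k + 2) (k + 1) k (by simp) (by simp)).1 (hex k)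
    have := h.mono_fromOpcycles
    have e : L.fromOpcycles (k + 1) k = (L.opcyclesIsoSc' (k + 2) (k + 1) k (by simp) (by simp)).hom ≫
        (L.sc' (k + 2) (k + 1) k).fromOpcycles := by
      rw [← cancel_epi (L.pOpcycles (k + 1))]
      rw [L.p_fromOpcycles, HomologicalComplex.pOpcycles_opcyclesIsoSc'_hom_assoc, ShortComplex.p_fromOpcycles]
      rfl
    rw [e]
    infer_instance
  refine .mk' ?_ inferInstance inferInstance
  refine ShortComplex.exact_of_g_is_cokernel _ (CokernelCofork.IsColimit.ofπ _ _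
    (fun g hg => L.descOpcycles g (k + 1) (by simp) (by
      rw [← L.p_fromOpcycles, Category.assoc]
      exact (congrArg _ hg).trans comp_zero))
    (fun g hg => L.p_descOpcycles _ _ _ _) (fun g hg b hb => ?_))
  rw [← cancel_epi (L.pOpcycles k), L.p_descOpcycles]
  exact hb

/-- The target of a resolution is the module of opcycles in degree zero. -/
noncomputable def resIso {F : C} {L : ChainComplex C ℕ} (π : L ⟶ (ChainComplex.single₀ C).obj F) [QuasiIso π] :
    L.opcycles 0 ≅ F :=
  (L.isoHomologyι₀).symm ≪≫ asIso (HomologicalComplex.homologyMap π 0) ≪≫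
    HomologicalComplex.singleObjHomologySelfIso (ComplexShape.down ℕ) 0 F

theorem exactAt_of_res {F : C} {L : ChainComplex C ℕ} (π : L ⟶ (ChainComplex.single₀ C).obj F) [QuasiIso π]
    (k : ℕ) : L.ExactAt (k + 1) := by
  rw [← quasiIsoAt_iff_exactAt' π (k + 1) (HomologicalComplex.exactAt_single_obj _ _ _ _ (by simp))]
  infer_instance

section Sums

variable {G : Type w} [AddCommGroup G]

/-- An additive function on a class closed under cokernels of monomorphisms is determined by any finite resolution. -/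
theorem alt_sum (P : ObjectProperty C) (χ : C → G)
    (hc : ∀ S : ShortComplex C, S.ShortExact → P S.X₁ → P S.X₂ → P S.X₃)
    (hadd : ∀ S : ShortComplex C, S.ShortExact → P S.X₁ → P S.X₂ → P S.X₃ → χ S.X₂ = χ S.X₁ + χ S.X₃)
    (hz : ∀ Z : C, IsZero Z → P Z ∧ χ Z = 0)
    (hiso : ∀ {M N : C}, (M ≅ N) → P M → P N ∧ χ M = χ N)
    {F : C} (n : ℕ) (L : ChainComplex C ℕ) (π : L ⟶ (ChainComplex.single₀ C).obj F) [QuasiIso π]
    (hP : ∀ i, P (L.X i)) (hn : ∀ i, n < i → IsZero (L.X i)) :
    P F ∧ χ F = ∑ k ∈ Finset.range (n + 1), (-1 : ℤ) ^ k • χ (L.X k) := by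
  have hex := exactAt_of_res π
  have key : ∀ j k, k + j = n + 1 → P (L.opcycles k) ∧
      χ (L.opcycles k) = ∑ i ∈ Finset.range j, (-1 : ℤ) ^ i • χ (L.X (k + i)) := by
    intro j
    induction j with
    | zero =>
      intro k hk
      obtain ⟨h1, h2⟩ := hz _ (IsZero.of_epi (L.pOpcycles k) (hn k (by omega)))
      exact ⟨h1, by rw [h2, Finset.range_zero, Finset.sum_empty]⟩
    | succ j ih =>
      intro k hk
      obtain ⟨hp, he⟩ := ih (k + 1) (by omega)
      have hS := opcycles_shortExact L hex k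
      have h3 : P (L.opcycles k) := hc _ hS hp (hP k)
      refine ⟨h3, ?_⟩
      have ha : χ (L.X k) = χ (L.opcycles (k + 1)) + χ (L.opcycles k) := hadd _ hS hp (hP k) h3
      rw [Finset.sum_range_succ', show χ (L.opcycles k) = χ (L.X k) - χ (L.opcycles (k + 1)) by rw [ha]; abel, he,
        pow_zero, one_smul, Nat.add_zero, sub_eq_neg_add, ← Finset.sum_neg_distrib]
      congr 1
      refine Finset.sum_congr rfl fun i _ => ?_
      rw [pow_succ, mul_neg_one, neg_smul, show k + 1 + i = k + (i + 1) by omega]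
  obtain ⟨h1, h2⟩ := key (n + 1) 0 (by omega)
  obtain ⟨h3, h4⟩ := hiso (resIso π) h1
  exact ⟨h3, by rw [← h4, h2]; simp only [Nat.zero_add]⟩

/-- Additive functions on a class closed under kernels of epimorphisms vanish on exact finite complexes. -/
theorem alt_sum_exact (P : ObjectProperty C) (χ : C → G)
    (hk : ∀ S : ShortComplex C, S.ShortExact → P S.X₂ → P S.X₃ → P S.X₁)
    (hadd : ∀ S : ShortComplex C, S.ShortExact → P S.X₁ → P S.X₂ → P S.X₃ → χ S.X₂ = χ S.X₁ + χ S.X₃)
    (hz : ∀ Z : C, IsZero Z → P Z ∧ χ Z = 0)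
    (n : ℕ) (L : ChainComplex C ℕ) (hex : ∀ k, L.ExactAt (k + 1)) (h0 : IsZero (L.opcycles 0))
    (hP : ∀ i, P (L.X i)) (hn : ∀ i, n < i → IsZero (L.X i)) :
    ∑ k ∈ Finset.range (n + 1), (-1 : ℤ) ^ k • χ (L.X k) = 0 := by
  have hQ : ∀ k, P (L.opcycles k) := fun k => by
    induction k with
    | zero => exact (hz _ h0).1
    | succ k ih => exact hk _ (opcycles_shortExact L hex k) (hP k) ih
  have key : ∀ k, ∑ i ∈ Finset.range k, (-1 : ℤ) ^ i • χ (L.X i) =
      χ (L.opcycles 0) - (-1 : ℤ) ^ k • χ (L.opcycles k) := fun k => by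
    induction k with
    | zero => simp
    | succ k ih =>
      have ha : χ (L.X k) = χ (L.opcycles (k + 1)) + χ (L.opcycles k) :=
        hadd _ (opcycles_shortExact L hex k) (hQ (k + 1)) (hP k) (hQ k)
      rw [Finset.sum_range_succ, ih, ha, pow_succ, mul_neg_one, neg_smul, smul_add]
      abel
  rw [key, (hz _ h0).2, (hz _ (IsZero.of_epi (L.pOpcycles (n + 1)) (hn _ (by omega)))).2]
  simp

end Sums

section Map

variable {D : Type*} [Category* D] [Abelian D] (F : C ⥤ D) [F.Additive]

theorem d_eq_p_fromOpcycles (L : ChainComplex C ℕ) (k : ℕ) :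
    L.d (k + 1) k = L.pOpcycles (k + 1) ≫ L.fromOpcycles (k + 1) k :=
  (L.p_fromOpcycles _ _).symm

/-- A functor which keeps the sequences of opcycles short exact maps a resolution to a resolution. -/
theorem exists_map_res [F.PreservesEpimorphisms] (L : ChainComplex C ℕ) (hex : ∀ k, L.ExactAt (k + 1))
    (hSE : ∀ k, ((ShortComplex.mk (L.fromOpcycles (k + 1) k) (L.pOpcycles k)
      (by rw [← cancel_epi (L.pOpcycles (k + 1))]; simp)).map F).ShortExact)
    {G₀ : D} (e : F.obj (L.opcycles 0) ≅ G₀) :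
    ∃ π : (F.mapHomologicalComplex _).obj L ⟶ (ChainComplex.single₀ D).obj G₀, QuasiIso π := by
  let M := (F.mapHomologicalComplex (ComplexShape.down ℕ)).obj L
  have hd : ∀ k, M.d (k + 1) k = F.map (L.pOpcycles (k + 1)) ≫ F.map (L.fromOpcycles (k + 1) k) := fun k => by
    rw [← F.map_comp, ← d_eq_p_fromOpcycles]
    rfl
  have hdp : ∀ k, M.d (k + 1) k ≫ F.map (L.pOpcycles k) = 0 := fun k => by
    show F.map (L.d (k + 1) k) ≫ F.map (L.pOpcycles k) = 0
    rw [← F.map_comp, L.d_pOpcycles, F.map_zero]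
  have h1 : ∀ k, (ShortComplex.mk (M.d (k + 1) k) (F.map (L.pOpcycles k)) (hdp k)).Exact := fun k => by
    let T₀ := ShortComplex.mk (M.d (k + 1) k) (F.map (L.pOpcycles k)) (hdp k)
    let T₁ := (ShortComplex.mk (L.fromOpcycles (k + 1) k) (L.pOpcycles k)
      (by rw [← cancel_epi (L.pOpcycles (k + 1))]; simp)).map F
    let ψ : T₀ ⟶ T₁ := ShortComplex.homMk (F.map (L.pOpcycles (k + 1))) (𝟙 _) (𝟙 _)
      (by simp [T₀, T₁, hd]) (by simp [T₀, T₁])
    haveI : Epi ψ.τ₁ := inferInstanceAs (Epi (F.map (L.pOpcycles (k + 1))))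
    haveI : IsIso ψ.τ₂ := inferInstanceAs (IsIso (𝟙 _))
    haveI : Mono ψ.τ₃ := inferInstanceAs (Mono (𝟙 _))
    exact (ShortComplex.exact_iff_of_epi_of_isIso_of_mono ψ).2 (hSE k).exact
  let π : M ⟶ (ChainComplex.single₀ D).obj G₀ :=
    (ChainComplex.toSingle₀Equiv M G₀).symm ⟨F.map (L.pOpcycles 0) ≫ e.hom, by
      rw [← Category.assoc, hdp 0, zero_comp]⟩
  have hπ : π.f 0 = F.map (L.pOpcycles 0) ≫ e.hom := ChainComplex.toSingle₀Equiv_symm_apply_f_zero _ _
  refine ⟨π, ⟨fun i => ?_⟩⟩
  rcases i with _ | i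
  · rw [ChainComplex.quasiIsoAt₀_iff, ShortComplex.quasiIso_iff_of_zeros']
    · refine ⟨?_, ?_⟩
      · let T₁ := ShortComplex.mk (M.d 1 0) (F.map (L.pOpcycles 0) ≫ e.hom)
          (by rw [← Category.assoc, hdp 0, zero_comp])
        have hT : T₁.Exact :=
          ShortComplex.exact_of_iso (ShortComplex.isoMk (S₁ := ShortComplex.mk (M.d 1 0) (F.map (L.pOpcycles 0)) (hdp 0))
            (S₂ := T₁) (Iso.refl _) (Iso.refl _) e (by simp [T₁]) (by simp [T₁])) (h1 0)
        refine ShortComplex.exact_of_iso (ShortComplex.isoMk (S₁ := T₁) (Iso.refl _) (Iso.refl _) (Iso.refl _) ?_ ?_) hT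
        · simp [T₁, M]
        · simp [T₁, HomologicalComplex.shortComplexFunctor', hπ, M]
      · show Epi (π.f 0)
        rw [hπ]
        infer_instance
    · simp [HomologicalComplex.shortComplexFunctor']
    · simp [HomologicalComplex.shortComplexFunctor']
    · simp [HomologicalComplex.shortComplexFunctor']
  · rw [quasiIsoAt_iff_exactAt' π (i + 1) (HomologicalComplex.exactAt_single_obj _ _ _ _ (by simp)),
      M.exactAt_iff' (i + 2) (i + 1) i (by simp) (by simp)]
    let T₀ := ShortComplex.mk (M.d (i + 2) (i + 1)) (F.map (L.pOpcycles (i + 1))) (hdp (i + 1))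
    let T₂ := M.sc' (i + 2) (i + 1) i
    let ψ : T₀ ⟶ T₂ := ShortComplex.homMk (𝟙 _) (𝟙 _) (F.map (L.fromOpcycles (i + 1) i))
      (by simp [T₀, T₂]) (by simp [T₀, T₂, ← hd, M])
    haveI : Mono ψ.τ₃ := (hSE i).mono_f
    haveI : Epi ψ.τ₁ := inferInstanceAs (Epi (𝟙 _))
    haveI : IsIso ψ.τ₂ := inferInstanceAs (IsIso (𝟙 _))
    exact (ShortComplex.exact_iff_of_epi_of_isIso_of_mono ψ).1 (h1 (i + 1))

end Map

end Groth.Agent.KRRLib
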