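import Groth.Agent.KRRLib.Kvb
import Groth.Agent.KRRLib.Res
import Groth.Agent.KRRLib.PushPd

/-!
# Push-forward of `K₀` of bundles along regular closed immersions
-/

set_option autoImplicit false
set_option backward.isDefEq.respectTransparency false
set_option backward.isDefEq.respectTransparency.types false

universe v u

open CategoryTheory CategoryTheory.Limits AlgebraicGeometry ZeroObject

namespace Groth.Agent.KRRLib

open Groth.Agent Groth.Agent.KZ

variable {X Y Z : Scheme.{u}}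

theorem p1_isZero [IsNoetherian Y] (hY : KRR.HasEnoughLocFree Y) {M : Y.Modules} (h : IsZero M) : LFRes.P₁ Y M :=
  (LFRes.resSetup hY).le M (KFlatLib.isFinLocFree_of_isZero h)

theorem p1_iso [IsNoetherian Y] (hY : KRR.HasEnoughLocFree Y) {M N : Y.Modules} (e : M ≅ N) (h : LFRes.P₁ Y M) :
    LFRes.P₁ Y N :=
  (LFRes.resSetup hY).iso₁.of_iso e h

theorem p1_cokernel [IsNoetherian Y] (hY : KRR.HasEnoughLocFree Y) {S : ShortComplex Y.Modules} (hS : S.ShortExact)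
    (a : LFRes.P₁ Y S.X₁) (b : LFRes.P₁ Y S.X₂) : LFRes.P₁ Y S.X₃ := by
  obtain ⟨n, hn⟩ := LFRes.exists_pdlt a.2
  obtain ⟨m, hm⟩ := LFRes.exists_pdlt b.2
  have hc : Coh.IsCoh S.X₃ := isClosedUnderIsomorphisms_isCoh.of_iso
    ((cokernelIsCokernel S.f).coconePointUniqueUpToIso hS.gIsCokernel) (QCoh.isCoh_cokernel a.1.1 b.1 S.f)
  exact ⟨hc, LFRes.hasLFRes hY _ _ (LFRes.PDLT.cokernel_of hS hc (hn.mono (show n + 1 ≤ n + m + 1 by omega))
    (hm.mono (show m + 1 ≤ n + m + 1 + 1 by omega)))⟩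

theorem cl1_iso [IsNoetherian Y] (hY : KRR.HasEnoughLocFree Y) {M N : Y.Modules} (e : M ≅ N) (h : LFRes.P₁ Y M) :
    KZero.clSub (LFRes.P₁ Y) M = KZero.clSub (LFRes.P₁ Y) N :=
  KZ.clSub_iso _ e h (p1_iso hY e h) (isZero_zero _) (p1_isZero hY (isZero_zero _))

/-- Pushforward along a closed immersion is exact. -/
theorem push_shortExact (f : X ⟶ Y) [IsClosedImmersion f] {S : ShortComplex X.Modules} (hS : S.ShortExact) :
    (S.map (Scheme.Modules.pushforward f)).ShortExact := by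
  haveI : PreservesFiniteColimits (Scheme.Modules.pushforward f) :=
    ⟨fun J _ _ => KFlatLib.preservesColimitsOfShape_push f J⟩
  haveI : PreservesFiniteLimits (Scheme.Modules.pushforward f) := by
    haveI := (Scheme.Modules.pullbackPushforwardAdjunction f).rightAdjoint_preservesLimits
    infer_instance
  exact hS.map_of_exact (Scheme.Modules.pushforward f)

theorem p1_push (f : X ⟶ Y) [IsClosedImmersion f] (hf : Mor2.IsRegularClosedImmersion f) [IsNoetherian X]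
    [IsNoetherian Y] (hY : KRR.HasEnoughLocFree Y) {F : X.Modules} (hF : FlatMod.IsFinLocFree F) :
    LFRes.P₁ Y ((Scheme.Modules.pushforward f).obj F) := by
  obtain ⟨n, hn⟩ := exists_pdlt_push f hf hF
  exact ⟨hn.1, LFRes.hasLFRes hY n _ hn⟩

theorem exists_iota [IsNoetherian Y] (hY : KRR.HasEnoughLocFree Y) :
    ∃ ι : SGA6.Kvb Y ≃+ KZero.K0sub (LFRes.P₁ Y),
      ∀ M : Y.Modules, FlatMod.IsFinLocFree M → ι (KRR.cl Y M) = KZero.clSub (LFRes.P₁ Y) M := by
  obtain ⟨ι, hι⟩ := KZ.exists_liftSub (fun M : Y.Modules => FlatMod.IsFinLocFree M) (KZero.clSub (LFRes.P₁ Y))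
    fun _ hS h₁ h₂ h₃ => KZ.clSub_ses _ hS ((LFRes.resSetup hY).le _ h₁) ((LFRes.resSetup hY).le _ h₂)
      ((LFRes.resSetup hY).le _ h₃)
  exact ⟨AddEquiv.ofBijective ι (LFRes.bijective_resolvable hY ι hι), hι⟩

/-- A function additive on resolvable modules, evaluated by a resolution. -/
theorem eval_res [IsNoetherian Y] (hY : KRR.HasEnoughLocFree Y) {G : Type*} [AddCommGroup G]
    (φ : KZero.K0sub (LFRes.P₁ Y) →+ G) {F : Y.Modules} {n : ℕ} {L : ChainComplex Y.Modules ℕ}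
    {π : L ⟶ (ChainComplex.single₀ Y.Modules).obj F} (h : KRR.IsLFRes F n L π) :
    φ (KZero.clSub (LFRes.P₁ Y) F) =
      ∑ k ∈ Finset.range (n + 1), (-1 : ℤ) ^ k • φ (KZero.clSub (LFRes.P₁ Y) (L.X k)) := by
  haveI := h.quasiIso
  exact (alt_sum (LFRes.P₁ Y) (fun M => φ (KZero.clSub (LFRes.P₁ Y) M))
    (fun _ hS a b => p1_cokernel hY hS a b)
    (fun _ hS a b c => by rw [KZ.clSub_ses _ hS a b c, map_add])
    (fun Z hZ => ⟨p1_isZero hY hZ, by rw [KZ.clSub_isZero _ hZ, map_zero]⟩)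
    (fun e a => ⟨p1_iso hY e a, by rw [cl1_iso hY e a]⟩)
    n L π (fun i => (LFRes.resSetup hY).le _ (h.finLocFree i)) h.isZero).2

/-- The class in `Kvb` of a resolution. -/
theorem iota_res [IsNoetherian Y] (hY : KRR.HasEnoughLocFree Y) (ι : SGA6.Kvb Y ≃+ KZero.K0sub (LFRes.P₁ Y))
    (hι : ∀ M : Y.Modules, FlatMod.IsFinLocFree M → ι (KRR.cl Y M) = KZero.clSub (LFRes.P₁ Y) M)
    {F : Y.Modules} {n : ℕ} {L : ChainComplex Y.Modules ℕ} {π : L ⟶ (ChainComplex.single₀ Y.Modules).obj F}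
    (h : KRR.IsLFRes F n L π) :
    ι.symm (KZero.clSub (LFRes.P₁ Y) F) = ∑ k ∈ Finset.range (n + 1), (-1 : ℤ) ^ k • KRR.cl Y (L.X k) := by
  refine (eval_res hY ι.symm.toAddMonoidHom h).trans (Finset.sum_congr rfl fun k _ => ?_)
  rw [AddEquiv.coe_toAddMonoidHom, ← hι _ (h.finLocFree k), AddEquiv.symm_apply_apply]

theorem exists_pushK (f : X ⟶ Y) (hf : Mor2.IsRegularClosedImmersion f) [IsNoetherian X] [IsNoetherian Y]
    (hY : KRR.HasEnoughLocFree Y) (ι : SGA6.Kvb Y ≃+ KZero.K0sub (LFRes.P₁ Y)) :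
    ∃ g : SGA6.Kvb X →+ SGA6.Kvb Y, ∀ F : X.Modules, FlatMod.IsFinLocFree F →
      g (KRR.cl X F) = ι.symm (KZero.clSub (LFRes.P₁ Y) ((Scheme.Modules.pushforward f).obj F)) :=
  haveI := hf.1
  KZ.exists_liftSub _ (fun F => ι.symm (KZero.clSub (LFRes.P₁ Y) ((Scheme.Modules.pushforward f).obj F)))
    fun S hS h₁ h₂ h₃ => by
      rw [← map_add]
      exact congrArg ι.symm (KZ.clSub_ses _ (push_shortExact f hS) (p1_push f hf hY h₁) (p1_push f hf hY h₂)
        (p1_push f hf hY h₃))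

/-- A push-forward in the sense of `IsPushCl`, evaluated on a bundle. -/
theorem pushCl_apply {KX KY : Type v} [CommRing KX] [CommRing KY] {φX : SGA6.Kvb X →+ KX} {φY : SGA6.Kvb Y →+ KY}
    (f : X ⟶ Y) (hf : Mor2.IsRegularClosedImmersion f) [IsNoetherian X] [IsNoetherian Y]
    (hY : KRR.HasEnoughLocFree Y) (ι : SGA6.Kvb Y ≃+ KZero.K0sub (LFRes.P₁ Y))
    (hι : ∀ M : Y.Modules, FlatMod.IsFinLocFree M → ι (KRR.cl Y M) = KZero.clSub (LFRes.P₁ Y) M)
    {g : KX →+ KY} (hg : KRR.IsPushCl f φX φY g) {F : X.Modules} (hF : FlatMod.IsFinLocFree F) :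
    g (φX (KRR.cl X F)) = φY (ι.symm (KZero.clSub (LFRes.P₁ Y) ((Scheme.Modules.pushforward f).obj F))) := by
  haveI := hf.1
  obtain ⟨n, L, π, h⟩ := (p1_push f hf hY hF).2
  rw [hg F hF n L π h, iota_res hY ι hι h, map_sum]
  exact Finset.sum_congr rfl fun k _ => (map_zsmul φY _ _).symm

theorem existsUnique_pushCl {KX KY : Type v} [CommRing KX] [CommRing KY] {φX : SGA6.Kvb X →+ KX}
    (φY : SGA6.Kvb Y →+ KY) (hφX : Function.Bijective φX)
    (f : X ⟶ Y) (hf : Mor2.IsRegularClosedImmersion f) [IsNoetherian X] [IsNoetherian Y]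
    (hY : KRR.HasEnoughLocFree Y) : ∃! h : KX →+ KY, KRR.IsPushCl f φX φY h := by
  obtain ⟨ι, hι⟩ := exists_iota hY
  obtain ⟨g₀, hg₀⟩ := exists_pushK f hf hY ι
  obtain ⟨g, hg⟩ := exists_on_model hφX (φY.comp g₀)
  have hgP : KRR.IsPushCl f φX φY g := fun F hF n L π h => by
    rw [hg, AddMonoidHom.comp_apply, hg₀ F hF, iota_res hY ι hι h, map_sum]
    exact Finset.sum_congr rfl fun k _ => map_zsmul φY _ _
  exact ⟨g, hgP, fun g' hg' => hom_ext hφX fun F hF => by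
    rw [pushCl_apply f hf hY ι hι hg' hF, pushCl_apply f hf hY ι hι hgP hF]⟩

/-- Functoriality of the push-forward. -/
theorem pushCl_comp {KX KY KZ' : Type v} [CommRing KX] [CommRing KY] [CommRing KZ'] {φX : SGA6.Kvb X →+ KX}
    {φY : SGA6.Kvb Y →+ KY} {φZ : SGA6.Kvb Z →+ KZ'} (hφX : Function.Bijective φX)
    (f : X ⟶ Y) (g : Y ⟶ Z) (hf : Mor2.IsRegularClosedImmersion f) (hg : Mor2.IsRegularClosedImmersion g)
    [IsNoetherian X] [IsNoetherian Y] [IsNoetherian Z] (hY : KRR.HasEnoughLocFree Y) (hZ : KRR.HasEnoughLocFree Z)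
    {a : KX →+ KY} (ha : KRR.IsPushCl f φX φY a) {b : KY →+ KZ'} (hb : KRR.IsPushCl g φY φZ b)
    {c : KX →+ KZ'} (hc : KRR.IsPushCl (f ≫ g) φX φZ c) : c = b.comp a := by
  haveI := hf.1
  haveI := hg.1
  obtain ⟨ι, hι⟩ := exists_iota hZ
  refine hom_ext hφX fun F hF => ?_
  obtain ⟨n, L, π, hL⟩ := (p1_push f hf hY hF).2
  haveI := hL.quasiIso
  let gf := Scheme.Modules.pushforward g
  have key := alt_sum (fun M : Y.Modules => LFRes.P₁ Z (gf.obj M))
    (fun M => φZ (ι.symm (KZero.clSub (LFRes.P₁ Z) (gf.obj M))))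
    (fun _ hS a b => p1_cokernel hZ (push_shortExact g hS) a b)
    (fun S hS a b c => by
      rw [← map_add, ← map_add]
      exact congrArg (fun t => φZ (ι.symm t)) (KZ.clSub_ses _ (push_shortExact g hS) a b c))
    (fun M hM => ⟨p1_isZero hZ (gf.map_isZero hM), by
      rw [KZ.clSub_isZero _ (gf.map_isZero hM), map_zero, map_zero]⟩)
    (fun e a => ⟨p1_iso hZ (gf.mapIso e) a, by rw [cl1_iso hZ (gf.mapIso e) a]⟩)
    n L π (fun i => p1_push g hg hZ (hL.finLocFree i)) hL.isZero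
  have e := (Scheme.Modules.pushforwardComp f g).app F
  obtain ⟨m, M, ρ, hM⟩ := (p1_iso hZ e key.1).2
  have hcF : c (φX (KRR.cl X F)) =
      φZ (ι.symm (KZero.clSub (LFRes.P₁ Z) ((Scheme.Modules.pushforward (f ≫ g)).obj F))) := by
    rw [hc F hF m M ρ hM, iota_res hZ ι hι hM, map_sum]
    exact Finset.sum_congr rfl fun k _ => (map_zsmul φZ _ _).symm
  rw [hcF, ← cl1_iso hZ e key.1, AddMonoidHom.comp_apply, ha F hF n L π hL, map_sum]
  refine key.2.trans (Finset.sum_congr rfl fun k _ => ?_)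
  rw [map_zsmul, pushCl_apply g hg hZ ι hι hb (hL.finLocFree k)]

end Groth.Agent.KRRLib
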